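import Cfsg.Agent.Lib.Leech.Sub.Pack

/-!
The checks of a certificate cut into pieces, so that each kernel computation stays small.
-/

set_option autoImplicit false
set_option maxRecDepth 10000

namespace CfsgLib.Leech

open Cfsg CfsgLib.Golay

attribute [local irreducible] dL bL key keyL coord packB linL bits

/-- `p` holds on the piece number `i` of length `n` -/
def pieceOK {α : Type} (n : ℕ) (l : List α) (p : α → Bool) (i : ℕ) : Bool :=
  ((l.drop (n * i)).take n).all p

theorem all_of_pieces {α : Type} {n m : ℕ} {l : List α} {p : α → Bool} (hlen : l.length ≤ n * m)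
    (h : ∀ i < m, pieceOK n l p i = true) : l.all p = true := by
  rw [List.all_eq_true]
  intro x hx
  obtain ⟨j, hj, rfl⟩ := List.getElem_of_mem hx
  rcases Nat.eq_zero_or_pos n with rfl | hn
  · simp at hlen; subst hlen; simp at hj
  have him : j / n < m := Nat.div_lt_of_lt_mul (lt_of_lt_of_le hj hlen)
  have h' := List.all_eq_true.1 (h _ him)
  refine h' _ (List.mem_iff_getElem?.2 ⟨j % n, ?_⟩)
  rw [List.getElem?_take_of_lt (Nat.mod_lt _ hn), List.getElem?_drop, Nat.div_add_mod,
    List.getElem?_eq_getElem hj]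

/-- checks of the fixed classes and of the representatives -/
def headOK (C : SubCert) : Bool :=
  C.fix.all (fun k => decide (k < 16777216)) && C.starts.all (fun l => inL l && dotL l l == 32)

/-- check of one generator -/
def gfixOK (fix : List ℕ) (g : ℕ × ℕ × List ℕ) : Bool := genOK g && fixOK fix g.2.2

/-- the walks of one fibre -/
def fibWalksOK (C : SubCert) (F : FibreCert) : Bool :=
  decide (F.low < 4096) &&
    walkC (C.base.map fun g => g.2.2) lo (fun _ => true) F.fuel F.code [F.low] (1 <<< F.low) == some F.acc &&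
    F.orbs.all (subOrbOK C F)

/-- all generators of all fibres -/
def SubCert.fibGens (C : SubCert) : List (ℕ × ℕ × List ℕ) := C.fibs.flatMap fun F => F.gens

theorem subCore_of_parts {C : SubCert} (h1 : headOK C = true)
    (h2 : C.base.all (gfixOK C.fix) = true) (h3 : C.fibGens.all (gfixOK C.fix) = true)
    (h4 : C.fibs.all (fibWalksOK C) = true) (h5 : disjAcc (C.fibs.map fun F => F.acc) = true) :
    subCore C = true := by
  simp only [headOK, Bool.and_eq_true] at h1
  simp only [List.all_eq_true, gfixOK, fibWalksOK, Bool.and_eq_true, decide_eq_true_eq,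
    SubCert.fibGens, List.mem_flatMap] at h2 h3 h4
  simp only [subCore, subFibOK, baseOK, Bool.and_eq_true, List.all_eq_true, decide_eq_true_eq]
  refine ⟨⟨⟨⟨?_, ?_⟩, h2⟩, fun F hF => ?_⟩, h5⟩
  · simpa [List.all_eq_true] using h1.1
  · simpa [List.all_eq_true] using h1.2
  · obtain ⟨⟨hlow, hw⟩, ho⟩ := h4 F hF
    exact ⟨⟨⟨⟨hlow, fun g hg => (h2 g hg).1⟩, hw⟩, fun g hg => h3 g ⟨F, hF, hg⟩⟩, ho⟩

/-- the glueing words through given tables -/
def wordsOnlyOK (C : SubCert) (autos : List (List (List ℤ) × List ℕ)) (ws : List (ℕ × ℕ × List ℕ)) :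
    Bool :=
  ws.all (wordOK C (C.base.map (fun g => g.2.2) ++ autos.map fun A => A.2))

theorem wordsOK_of_parts {C : SubCert} {autos : List (List (List ℤ) × List ℕ)}
    {ws : List (ℕ × ℕ × List ℕ)} (h1 : autos.all (autoOK C.fix) = true)
    (h2 : wordsOnlyOK C autos ws = true) : wordsOK C autos ws = true := by
  simp only [wordsOK, Bool.and_eq_true]
  exact ⟨h1, h2⟩

theorem subOK_of_parts {C : SubCert} (h1 : subCore C = true) (h2 : C.glue.all (subGlueOK C) = true) :
    subOK C = true := by
  simp only [subOK, Bool.and_eq_true]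
  exact ⟨h1, h2⟩

end CfsgLib.Leech
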