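import Cfsg.Agent.Lib.Leech.Sub.Cert32
import Cfsg.Agent.Lib.Leech.Sub.Cert48
import Cfsg.Agent.Lib.Leech.Shells

/-!
Scalar products of short vectors with a fixed vector of norm 32 or 48: numbers and transitivity.
-/

set_option autoImplicit false
set_option maxRecDepth 10000

namespace CfsgLib.Leech

open Cfsg CfsgLib.Golay

attribute [local irreducible] dL bL key keyL coord packB linL bits cert32 cert48

theorem dotInt_neg_right (x y : GolayPt → ℤ) : dotInt x (-y) = -dotInt x y := by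
  simp [dotInt]

theorem dotInt_neg_left (x y : GolayPt → ℤ) : dotInt (-x) y = -dotInt x y := by
  simp [dotInt]

theorem natAbs_eq_of_key {a : ↥leechLattice} {x y : ↥leechLattice}
    (hx : sqNorm (x : GolayPt → ℤ) = 32) (hy : sqNorm (y : GolayPt → ℤ) = 32)
    (h : key (x : GolayPt → ℤ) = key (y : GolayPt → ℤ)) :
    (dotInt (a : GolayPt → ℤ) x).natAbs = (dotInt (a : GolayPt → ℤ) y).natAbs := by
  rcases eq_or_neg_of_key (v := x) (w := y) (by omega) (by omega) h with e | e
  · rw [e]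
  · rw [e, AddSubgroup.coe_neg, dotInt_neg_right, Int.natAbs_neg]

/-- a certificate about a given vector, with the scalar products of its representatives -/
structure CensusData where
  /-- the vector -/
  a : ↥leechLattice
  /-- the certificate -/
  C : SubCert
  /-- absolute scalar products -/
  ds : List ℕ
  lt : sqNorm (a : GolayPt → ℤ) < 64
  ok : SubValid C
  total : C.cnt (fun _ => true) = 98280
  fix : C.fix = [key (a : GolayPt → ℤ)]
  len : ds.length = C.starts.length
  nodup : ds.Nodup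
  dots : ∀ i, i < C.starts.length → ∀ w : ↥leechLattice,
    (w : GolayPt → ℤ) = vec (C.starts.getD i []) → (dotInt (a : GolayPt → ℤ) w).natAbs = ds.getD i 0
  parts : ∀ c : ℕ, c ∈ ds → C.cnt (fun i => ds.getD i 0 == c) + C.cnt (fun i => !(ds.getD i 0 == c)) = 98280

variable (D : CensusData)

theorem CensusData.fix_smul {g : ↥Co0} (hg : FixAll D.C.fix g) : g • D.a = D.a ∨ g • D.a = -D.a := by
  have h := hg (key (D.a : GolayPt → ℤ)) (by rw [D.fix]; simp)
  rw [act_key] at h
  have := sqNorm_smul g D.a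
  exact eq_or_neg_of_key D.lt (by have := D.lt; omega) h.symm

theorem CensusData.fixAll_of_smul {g : ↥Co0} (hg : g • D.a = D.a ∨ g • D.a = -D.a) :
    FixAll D.C.fix g := by
  intro k hk
  rw [D.fix, List.mem_singleton] at hk
  subst hk
  rw [act_key]
  rcases hg with e | e <;> rw [e]
  rw [AddSubgroup.coe_neg, key_neg D.a.2]

theorem CensusData.natAbs_smul {g : ↥Co0} (hg : FixAll D.C.fix g) (w : ↥leechLattice) :
    (dotInt (D.a : GolayPt → ℤ) (g • w : ↥leechLattice)).natAbs =
      (dotInt (D.a : GolayPt → ℤ) w).natAbs := by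
  conv_rhs => rw [← dotInt_smul g]
  rcases D.fix_smul hg with e | e <;> rw [e]
  rw [AddSubgroup.coe_neg, dotInt_neg_left, Int.natAbs_neg]

/-- a short class with a given absolute scalar product -/
def CensusData.HasDot (c k : ℕ) : Prop := ∃ w : ↥leechLattice, sqNorm (w : GolayPt → ℤ) = 32 ∧
  key (w : GolayPt → ℤ) = k ∧ (dotInt (D.a : GolayPt → ℤ) w).natAbs = c

/-- every short vector is an image of a representative -/
theorem CensusData.exists_rep {w : ↥leechLattice} (hw : sqNorm (w : GolayPt → ℤ) = 32) :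
    ∃ i, i < D.C.starts.length ∧ ∃ r : ↥leechLattice, ∃ g, FixAll D.C.fix g ∧
      sqNorm (r : GolayPt → ℤ) = 32 ∧ (r : GolayPt → ℤ) = vec (D.C.starts.getD i []) ∧
      (g • r = w ∨ g • r = -w) := by
  obtain ⟨i, hi, -, g, hg, hgk⟩ := exists_reach D.ok D.total
    (k := key (w : GolayPt → ℤ)) ⟨key_lt _, typ_of_norm (t := 1) (by norm_num) hw⟩
  obtain ⟨r, hr, hrv, hrk⟩ := subOK_start D.ok hi
  refine ⟨i, hi, r, g, hg, hr, hrv, ?_⟩
  rw [← hrk, act_key] at hgk
  exact eq_or_neg_of_key (v := w) (w := g • r) (by omega) (by rw [sqNorm_smul]; omega) hgk.symm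

theorem CensusData.natAbs_mem {w : ↥leechLattice} (hw : sqNorm (w : GolayPt → ℤ) = 32) :
    (dotInt (D.a : GolayPt → ℤ) w).natAbs ∈ D.ds := by
  obtain ⟨i, hi, r, g, hg, hr, hrv, h⟩ := D.exists_rep hw
  have h1 := D.natAbs_smul hg r
  have h2 : (dotInt (D.a : GolayPt → ℤ) (g • r : ↥leechLattice)).natAbs =
      (dotInt (D.a : GolayPt → ℤ) w).natAbs := by
    rcases h with e | e <;> rw [e]
    rw [AddSubgroup.coe_neg, dotInt_neg_right, Int.natAbs_neg]
  rw [← h2, h1, D.dots i hi r hrv, List.getD_eq_getElem _ _ (D.len ▸ hi)]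
  exact List.getElem_mem _

theorem CensusData.transitive_up_to_sign {w w' : ↥leechLattice} (hw : sqNorm (w : GolayPt → ℤ) = 32)
    (hw' : sqNorm (w' : GolayPt → ℤ) = 32)
    (hd : (dotInt (D.a : GolayPt → ℤ) w).natAbs = (dotInt (D.a : GolayPt → ℤ) w').natAbs) :
    ∃ g : ↥Co0, g • D.a = D.a ∧ (g • w = w' ∨ g • w = -w') := by
  obtain ⟨i, hi, r, g, hg, hr, hrv, h⟩ := D.exists_rep hw
  obtain ⟨j, hj, r', g', hg', hr', hrv', h'⟩ := D.exists_rep hw'
  have hval : ∀ {i : ℕ} {r w : ↥leechLattice} {g : ↥Co0}, i < D.C.starts.length →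
      FixAll D.C.fix g → (r : GolayPt → ℤ) = vec (D.C.starts.getD i []) → (g • r = w ∨ g • r = -w) →
      (dotInt (D.a : GolayPt → ℤ) w).natAbs = D.ds.getD i 0 := by
    intro i r w g hi hg hrv h
    rw [← D.dots i hi r hrv, ← D.natAbs_smul hg r]
    rcases h with e | e <;> rw [e]
    rw [AddSubgroup.coe_neg, dotInt_neg_right, Int.natAbs_neg]
  have hij : i = j := by
    have e := (hval hi hg hrv h).symm.trans (hd.trans (hval hj hg' hrv' h'))
    rw [List.getD_eq_getElem _ _ (D.len ▸ hi), List.getD_eq_getElem _ _ (D.len ▸ hj)] at e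
    exact (D.nodup.getElem_inj_iff).1 e
  subst hij
  obtain rfl : r = r' := Subtype.ext (hrv.trans hrv'.symm)
  set k := g' * g⁻¹ with hk
  have hkw : k • w = w' ∨ k • w = -w' := by
    rcases h with e | e <;> rcases h' with e' | e' <;>
      simp only [hk, mul_smul, show w = g • r ∨ w = -(g • r) by simp [e]] <;>
      first
      | (rw [← e, inv_smul_smul]; first | exact Or.inl e' | exact Or.inr e')
      | (rw [show w = -(g • r) by simp [e], smul_neg', inv_smul_smul, smul_neg', e']; simp)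
  rcases D.fix_smul (hg'.mul (hg.inv (subOK_fix D.ok))) with e | e
  · exact ⟨k, e, hkw⟩
  · refine ⟨negAut * k, by rw [mul_smul, e, negAut_smul, neg_neg], ?_⟩
    rw [mul_smul, negAut_smul]
    rcases hkw with e' | e' <;> simp [e']

theorem CensusData.transitive {w w' : ↥leechLattice} (hw : sqNorm (w : GolayPt → ℤ) = 32)
    (hw' : sqNorm (w' : GolayPt → ℤ) = 32)
    (hd : dotInt (D.a : GolayPt → ℤ) w = dotInt (D.a : GolayPt → ℤ) w')
    (h0 : dotInt (D.a : GolayPt → ℤ) w ≠ 0) : ∃ g : ↥Co0, g • D.a = D.a ∧ g • w = w' := by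
  obtain ⟨g, hg, h | h⟩ := D.transitive_up_to_sign hw hw' (by rw [hd])
  · exact ⟨g, hg, h⟩
  · exfalso
    have := dotInt_smul g D.a w
    rw [hg, h, AddSubgroup.coe_neg, dotInt_neg_right, ← hd] at this
    omega

theorem CensusData.ncard_classes {c : ℕ} (hc : c ∈ D.ds) :
    {k | k ∈ typeSet 1 ∧ D.HasDot c k}.ncard = D.C.cnt (fun i => D.ds.getD i 0 == c) := by
  refine ncard_invariant D.ok _ (D.parts c hc) _ ?_ ?_
  · intro g hg k hk
    constructor
    · rintro ⟨w, hw, hwk, hwc⟩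
      refine ⟨g⁻¹ • w, by rw [sqNorm_smul, hw], ?_, ?_⟩
      · rw [← act_key, hwk, act_inv_act g hk]
      · rw [D.natAbs_smul (hg.inv (subOK_fix D.ok)), hwc]
    · rintro ⟨w, hw, hwk, hwc⟩
      exact ⟨g • w, by rw [sqNorm_smul, hw], by rw [← act_key, hwk], by rw [D.natAbs_smul hg, hwc]⟩
  · intro i hi
    obtain ⟨r, hr, hrv, hrk⟩ := subOK_start D.ok hi
    rw [beq_iff_eq]
    constructor
    · intro h
      exact ⟨r, hr, hrk, by rw [D.dots i hi r hrv, h]⟩
    · rintro ⟨w, hw, hwk, hwc⟩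
      rw [← D.dots i hi r hrv, natAbs_eq_of_key (a := D.a) hr hw (hrk.trans hwk.symm), hwc]

/-- the number of short vectors with a nonzero scalar product -/
theorem CensusData.ncard_dot {d : ℤ} (hd : d ≠ 0) (hc : d.natAbs ∈ D.ds) :
    {w : ↥leechLattice | sqNorm (w : GolayPt → ℤ) = 32 ∧ dotInt (D.a : GolayPt → ℤ) w = d}.ncard =
      D.C.cnt (fun i => D.ds.getD i 0 == d.natAbs) := by
  rw [← D.ncard_classes hc]
  refine Set.ncard_congr (fun w _ => key (w : GolayPt → ℤ)) ?_ ?_ ?_
  · rintro w ⟨hw, hwd⟩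
    exact ⟨⟨key_lt _, typ_of_norm (t := 1) (by norm_num) hw⟩, w, hw, rfl, by rw [hwd]⟩
  · rintro v w ⟨hv, hvd⟩ ⟨hw, hwd⟩ h
    rcases eq_or_neg_of_key (v := v) (w := w) (by omega) (by omega) h with e | e
    · exact e.symm
    · exfalso
      rw [e, AddSubgroup.coe_neg, dotInt_neg_right, hvd] at hwd
      omega
  · rintro k ⟨-, w, hw, hwk, hwc⟩
    rcases Int.natAbs_eq_natAbs_iff.1 hwc with e | e
    · exact ⟨w, ⟨hw, e⟩, hwk⟩
    · exact ⟨-w, ⟨by rw [AddSubgroup.coe_neg, sqNorm_neg, hw],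
        by rw [AddSubgroup.coe_neg, dotInt_neg_right, e, neg_neg]⟩,
        by rw [AddSubgroup.coe_neg, key_neg w.2, hwk]⟩

/-- the census data for the norm 32 -/
def data32 : CensusData where
  a := ⟨vec cert32V, vec_mem (by decide +kernel)⟩
  C := cert32
  ds := [0, 8, 16, 32]
  lt := by rw [sqNorm_vec (by decide +kernel)]; decide +kernel
  ok := subValid_of_ok cert32_ok
  total := cert32_total
  fix := by
    show cert32.fix = [key (vec cert32V)]
    rw [keyL_eq (by decide +kernel)]; decide +kernel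
  len := by decide +kernel
  nodup := by decide
  dots := fun i hi w hw => by
    have key' : ∀ i ∈ List.range cert32.starts.length, (cert32.starts.getD i []).length = 24 ∧
        (dotL cert32V (cert32.starts.getD i [])).natAbs = [0, 8, 16, 32].getD i 0 := by decide +kernel
    obtain ⟨hl, hv⟩ := key' i (List.mem_range.2 hi)
    show (dotInt (vec cert32V) (w : GolayPt → ℤ)).natAbs = _
    rw [hw, dotInt_vec (by decide +kernel) hl]
    exact hv
  parts := by decide +kernel

/-- the census data for the norm 48 -/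
def data48 : CensusData where
  a := ⟨vec cert48V, vec_mem (by decide +kernel)⟩
  C := cert48
  ds := [0, 8, 16, 24]
  lt := by rw [sqNorm_vec (by decide +kernel)]; decide +kernel
  ok := subValid_of_ok cert48_ok
  total := cert48_total
  fix := by
    show cert48.fix = [key (vec cert48V)]
    rw [keyL_eq (by decide +kernel)]; decide +kernel
  len := by decide +kernel
  nodup := by decide
  dots := fun i hi w hw => by
    have key' : ∀ i ∈ List.range cert48.starts.length, (cert48.starts.getD i []).length = 24 ∧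
        (dotL cert48V (cert48.starts.getD i [])).natAbs = [0, 8, 16, 24].getD i 0 := by decide +kernel
    obtain ⟨hl, hv⟩ := key' i (List.mem_range.2 hi)
    show (dotInt (vec cert48V) (w : GolayPt → ℤ)).natAbs = _
    rw [hw, dotInt_vec (by decide +kernel) hl]
    exact hv
  parts := by decide +kernel

theorem data32_norm : sqNorm (data32.a : GolayPt → ℤ) = 32 := by
  show sqNorm (vec cert32V) = 32
  rw [sqNorm_vec (by decide +kernel)]; decide +kernel

theorem data48_norm : sqNorm (data48.a : GolayPt → ℤ) = 48 := by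
  show sqNorm (vec cert48V) = 48
  rw [sqNorm_vec (by decide +kernel)]; decide +kernel

theorem cnt32 : cert32.cnt (fun i => [0, 8, 16, 32].getD i 0 == 8) = 47104 ∧
    cert32.cnt (fun i => [0, 8, 16, 32].getD i 0 == 16) = 4600 ∧
    cert32.cnt (fun i => [0, 8, 16, 32].getD i 0 == 32) = 1 := by decide +kernel

theorem cnt48 : cert48.cnt (fun i => [0, 8, 16, 24].getD i 0 == 8) = 48600 ∧
    cert48.cnt (fun i => [0, 8, 16, 24].getD i 0 == 16) = 11178 ∧
    cert48.cnt (fun i => [0, 8, 16, 24].getD i 0 == 24) = 552 := by decide +kernel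

/-! ### Moving to an arbitrary vector -/

theorem smul_sqNorm_set {g : ↥Co0} (v : ↥leechLattice) (d : ℤ) :
    {w : ↥leechLattice | sqNorm (w : GolayPt → ℤ) = 32 ∧ dotInt ((g • v : ↥leechLattice) : GolayPt → ℤ) w = d} =
      (fun w => g • w) '' {w : ↥leechLattice | sqNorm (w : GolayPt → ℤ) = 32 ∧ dotInt (v : GolayPt → ℤ) w = d} := by
  ext w
  constructor
  · rintro ⟨hw, hd⟩
    refine ⟨g⁻¹ • w, ⟨by rw [sqNorm_smul, hw], ?_⟩, smul_inv_smul g w⟩
    rw [← dotInt_smul g, smul_inv_smul, hd]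
  · rintro ⟨u, ⟨hu, hd⟩, rfl⟩
    exact ⟨by rw [sqNorm_smul, hu], by rw [dotInt_smul, hd]⟩

theorem exists_smul_data32 {v : ↥leechLattice} (hv : sqNorm (v : GolayPt → ℤ) = 32) :
    ∃ h : ↥Co0, h • data32.a = v := transitive_small (t := 1) (by norm_num) data32_norm hv

theorem exists_smul_data48 {v : ↥leechLattice} (hv : sqNorm (v : GolayPt → ℤ) = 48) :
    ∃ h : ↥Co0, h • data48.a = v := transitive_small (t := 2) (by norm_num) data48_norm hv

theorem ncard_dot_of_smul {h : ↥Co0} {v : ↥leechLattice} (hv : h • D.a = v) {d : ℤ} (hd : d ≠ 0)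
    (hc : d.natAbs ∈ D.ds) :
    {w : ↥leechLattice | sqNorm (w : GolayPt → ℤ) = 32 ∧ dotInt (v : GolayPt → ℤ) w = d}.ncard =
      D.C.cnt (fun i => D.ds.getD i 0 == d.natAbs) := by
  rw [← hv, smul_sqNorm_set, Set.ncard_image_of_injective _ (MulAction.injective h), D.ncard_dot hd hc]

theorem transitive_of_smul {h : ↥Co0} {v : ↥leechLattice} (hv : h • D.a = v) {w w' : ↥leechLattice}
    (hw : sqNorm (w : GolayPt → ℤ) = 32) (hw' : sqNorm (w' : GolayPt → ℤ) = 32)
    (hd : dotInt (v : GolayPt → ℤ) w = dotInt (v : GolayPt → ℤ) w') :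
    ∃ g : ↥Co0, g • v = v ∧ (g • w = w' ∨ (dotInt (v : GolayPt → ℤ) w = 0 ∧ g • w = -w')) := by
  have e : ∀ x : ↥leechLattice,
      dotInt (D.a : GolayPt → ℤ) (h⁻¹ • x : ↥leechLattice) = dotInt (v : GolayPt → ℤ) x := fun x => by
    rw [← dotInt_smul h, smul_inv_smul, hv]
  have hn : ∀ x : ↥leechLattice, sqNorm (x : GolayPt → ℤ) = 32 →
      sqNorm ((h⁻¹ • x : ↥leechLattice) : GolayPt → ℤ) = 32 := fun x hx => by rw [sqNorm_smul, hx]
  have hcon : ∀ g : ↥Co0, g • D.a = D.a → (h * g * h⁻¹) • v = v := fun g hg => by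
    rw [mul_smul, mul_smul, ← hv, inv_smul_smul, hg]
  by_cases h0 : dotInt (v : GolayPt → ℤ) w = 0
  · obtain ⟨g, hg, hg'⟩ := D.transitive_up_to_sign (hn w hw) (hn w' hw') (by rw [e, e, hd])
    refine ⟨h * g * h⁻¹, hcon g hg, ?_⟩
    rcases hg' with e' | e'
    · exact Or.inl (by rw [mul_smul, mul_smul, e', smul_inv_smul])
    · exact Or.inr ⟨h0, by rw [mul_smul, mul_smul, e', smul_neg', smul_inv_smul]⟩
  · obtain ⟨g, hg, hg'⟩ := D.transitive (hn w hw) (hn w' hw') (by rw [e, e, hd]) (by rwa [e])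
    exact ⟨h * g * h⁻¹, hcon g hg, Or.inl (by rw [mul_smul, mul_smul, hg', smul_inv_smul])⟩

theorem coe_set_ncard (P : (GolayPt → ℤ) → Prop) :
    {w : GolayPt → ℤ | w ∈ leechLattice ∧ P w}.ncard = {w : ↥leechLattice | P (w : GolayPt → ℤ)}.ncard := by
  rw [← Set.ncard_image_of_injective _ Subtype.val_injective]
  congr 1
  ext w
  constructor
  · rintro ⟨hw, h⟩; exact ⟨⟨w, hw⟩, h, rfl⟩
  · rintro ⟨x, h, rfl⟩; exact ⟨x.2, h⟩

theorem mem_ds32 : (8 : ℕ) ∈ data32.ds ∧ (16 : ℕ) ∈ data32.ds ∧ (32 : ℕ) ∈ data32.ds :=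
  ⟨by simp [data32], by simp [data32], by simp [data32]⟩

theorem mem_ds48 : (8 : ℕ) ∈ data48.ds ∧ (16 : ℕ) ∈ data48.ds ∧ (24 : ℕ) ∈ data48.ds :=
  ⟨by simp [data48], by simp [data48], by simp [data48]⟩

/-- the census of scalar products with a vector of norm 32 -/
theorem census32 {v : ↥leechLattice} (hv : sqNorm (v : GolayPt → ℤ) = 32) :
    {w : ↥leechLattice | sqNorm (w : GolayPt → ℤ) = 32 ∧ dotInt (v : GolayPt → ℤ) w = -16}.ncard = 4600 ∧
    {w : ↥leechLattice | sqNorm (w : GolayPt → ℤ) = 32 ∧ dotInt (v : GolayPt → ℤ) w = -8}.ncard = 47104 ∧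
    {w : ↥leechLattice | sqNorm (w : GolayPt → ℤ) = 32 ∧ dotInt (v : GolayPt → ℤ) w = 0}.ncard = 93150 := by
  classical
  obtain ⟨h, hh⟩ := exists_smul_data32 hv
  obtain ⟨m8, m16, m32⟩ := mem_ds32
  obtain ⟨c8, c16, c32⟩ := cnt32
  have n : ∀ d : ℤ, d ≠ 0 → d.natAbs ∈ data32.ds →
      {w : ↥leechLattice | sqNorm (w : GolayPt → ℤ) = 32 ∧ dotInt (v : GolayPt → ℤ) w = d}.ncard =
        cert32.cnt (fun i => [0, 8, 16, 32].getD i 0 == d.natAbs) :=
    fun d hd hc => ncard_dot_of_smul data32 hh hd hc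
  have e16 : _ = 4600 := (n (-16) (by norm_num) (by simpa using m16)).trans (by simpa using c16)
  have e16' : _ = 4600 := (n 16 (by norm_num) m16).trans c16
  have e8 : _ = 47104 := (n (-8) (by norm_num) (by simpa using m8)).trans (by simpa using c8)
  have e8' : _ = 47104 := (n 8 (by norm_num) m8).trans c8
  have e32 : _ = 1 := (n (-32) (by norm_num) (by simpa using m32)).trans (by simpa using c32)
  have e32' : _ = 1 := (n 32 (by norm_num) m32).trans c32
  refine ⟨e16, e8, ?_⟩
  set S := (finite_shell 32).toFinset with hS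
  have hSc : S.card = 196560 := by
    rw [hS, ← Set.ncard_eq_toFinset_card _ (finite_shell 32), ← ncard_shell32, shell,
      coe_set_ncard (fun w => sqNorm w = 32)]
  have hmaps : ∀ w ∈ S, dotInt (v : GolayPt → ℤ) (w : GolayPt → ℤ) ∈
      ([-32, -16, -8, 0, 8, 16, 32] : List ℤ).toFinset := by
    intro w hw
    rw [hS, Set.Finite.mem_toFinset] at hw
    have hm := data32.natAbs_mem (w := h⁻¹ • w) (by rw [sqNorm_smul]; exact hw)
    rw [← dotInt_smul h, smul_inv_smul, hh] at hm
    simp only [data32, List.mem_cons, List.not_mem_nil, or_false] at hm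
    simp only [List.mem_toFinset, List.mem_cons, List.not_mem_nil, or_false]
    omega
  have hsum := Finset.card_eq_sum_card_fiberwise hmaps
  have hfib : ∀ d : ℤ, (S.filter fun w : ↥leechLattice => dotInt (v : GolayPt → ℤ) (w : GolayPt → ℤ) = d).card =
      {w : ↥leechLattice | sqNorm (w : GolayPt → ℤ) = 32 ∧ dotInt (v : GolayPt → ℤ) w = d}.ncard := by
    intro d
    rw [← Set.ncard_coe_finset, Finset.coe_filter]
    apply congrArg Set.ncard
    ext w
    simp [hS]
  simp only [hfib] at hsum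
  rw [List.sum_toFinset _ (by decide)] at hsum
  simp only [List.map_cons, List.map_nil, List.sum_cons, List.sum_nil, e16, e16', e8, e8', e32, e32',
    hSc] at hsum
  omega

end CfsgLib.Leech
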