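import Cfsg.Prelude.Def_Sporadic
import Cfsg.Agent.Lib.Leech.Sub.Census
import Cfsg.Agent.Lib.Leech.Seed11

/-!
Consequences of the census: stabilizers of pairs of vectors.
-/

set_option autoImplicit false
set_option maxRecDepth 10000

namespace CfsgLib.Leech

open Cfsg CfsgLib.Golay

attribute [local irreducible] dL bL key keyL coord packB linL bits cert32 cert48

theorem dotInt_add_right (x y z : GolayPt → ℤ) : dotInt x (y + z) = dotInt x y + dotInt x z := by
  simp [dotInt, mul_add, Finset.sum_add_distrib]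

theorem dotInt_sub_right (x y z : GolayPt → ℤ) : dotInt x (y - z) = dotInt x y - dotInt x z := by
  simp [dotInt, mul_sub, Finset.sum_sub_distrib]

theorem ncard32_dot {v : ↥leechLattice} (hv : sqNorm (v : GolayPt → ℤ) = 32) {d : ℤ} (hd : d ≠ 0)
    (hc : d.natAbs ∈ data32.ds) :
    {w : ↥leechLattice | sqNorm (w : GolayPt → ℤ) = 32 ∧ dotInt (v : GolayPt → ℤ) w = d}.ncard =
      cert32.cnt (fun i => [0, 8, 16, 32].getD i 0 == d.natAbs) := by
  obtain ⟨h, hh⟩ := exists_smul_data32 hv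
  exact ncard_dot_of_smul data32 hh hd hc

theorem ncard48_dot {v : ↥leechLattice} (hv : sqNorm (v : GolayPt → ℤ) = 48) {d : ℤ} (hd : d ≠ 0)
    (hc : d.natAbs ∈ data48.ds) :
    {w : ↥leechLattice | sqNorm (w : GolayPt → ℤ) = 32 ∧ dotInt (v : GolayPt → ℤ) w = d}.ncard =
      cert48.cnt (fun i => [0, 8, 16, 24].getD i 0 == d.natAbs) := by
  obtain ⟨h, hh⟩ := exists_smul_data48 hv
  exact ncard_dot_of_smul data48 hh hd hc

theorem trans32 {v w w' : ↥leechLattice} (hv : sqNorm (v : GolayPt → ℤ) = 32)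
    (hw : sqNorm (w : GolayPt → ℤ) = 32) (hw' : sqNorm (w' : GolayPt → ℤ) = 32) {d : ℤ} (hd0 : d ≠ 0)
    (hd : dotInt (v : GolayPt → ℤ) w = d) (hd' : dotInt (v : GolayPt → ℤ) w' = d) :
    ∃ g : ↥Co0, g • v = v ∧ g • w = w' := by
  obtain ⟨h, hh⟩ := exists_smul_data32 hv
  obtain ⟨g, hg, hg' | ⟨h0, -⟩⟩ := transitive_of_smul data32 hh hw hw' (hd.trans hd'.symm)
  · exact ⟨g, hg, hg'⟩
  · exact absurd (hd.symm.trans h0) hd0

theorem trans32_zero {v w w' : ↥leechLattice} (hv : sqNorm (v : GolayPt → ℤ) = 32)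
    (hw : sqNorm (w : GolayPt → ℤ) = 32) (hw' : sqNorm (w' : GolayPt → ℤ) = 32)
    (hd : dotInt (v : GolayPt → ℤ) w = dotInt (v : GolayPt → ℤ) w') :
    ∃ g : ↥Co0, g • v = v ∧ (g • w = w' ∨ g • w = -w') := by
  obtain ⟨h, hh⟩ := exists_smul_data32 hv
  obtain ⟨g, hg, hg' | ⟨-, hg'⟩⟩ := transitive_of_smul data32 hh hw hw' hd
  · exact ⟨g, hg, Or.inl hg'⟩
  · exact ⟨g, hg, Or.inr hg'⟩

theorem trans48 {v w w' : ↥leechLattice} (hv : sqNorm (v : GolayPt → ℤ) = 48)
    (hw : sqNorm (w : GolayPt → ℤ) = 32) (hw' : sqNorm (w' : GolayPt → ℤ) = 32) {d : ℤ} (hd0 : d ≠ 0)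
    (hd : dotInt (v : GolayPt → ℤ) w = d) (hd' : dotInt (v : GolayPt → ℤ) w' = d) :
    ∃ g : ↥Co0, g • v = v ∧ g • w = w' := by
  obtain ⟨h, hh⟩ := exists_smul_data48 hv
  obtain ⟨g, hg, hg' | ⟨h0, -⟩⟩ := transitive_of_smul data48 hh hw hw' (hd.trans hd'.symm)
  · exact ⟨g, hg, hg'⟩
  · exact absurd (hd.symm.trans h0) hd0

theorem ncard48_24 {u : ↥leechLattice} (hu : sqNorm (u : GolayPt → ℤ) = 48) :
    {w : ↥leechLattice | sqNorm (w : GolayPt → ℤ) = 32 ∧ dotInt (u : GolayPt → ℤ) w = 24}.ncard = 552 :=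
  (ncard48_dot hu (by norm_num) (by simpa using mem_ds48.2.2)).trans (by simpa using cnt48.2.2)

theorem ncard48_16 {u : ↥leechLattice} (hu : sqNorm (u : GolayPt → ℤ) = 48) :
    {w : ↥leechLattice | sqNorm (w : GolayPt → ℤ) = 32 ∧ dotInt (u : GolayPt → ℤ) w = 16}.ncard = 11178 :=
  (ncard48_dot hu (by norm_num) (by simpa using mem_ds48.2.1)).trans (by simpa using cnt48.2.1)

theorem ncard48_neg16 {u : ↥leechLattice} (hu : sqNorm (u : GolayPt → ℤ) = 48) :
    {w : ↥leechLattice | sqNorm (w : GolayPt → ℤ) = 32 ∧ dotInt (u : GolayPt → ℤ) w = -16}.ncard = 11178 :=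
  (ncard48_dot hu (by norm_num) (by simpa using mem_ds48.2.1)).trans (by simpa using cnt48.2.1)

theorem pair24_iff {u v : ↥leechLattice} (hu : sqNorm (u : GolayPt → ℤ) = 48) :
    (sqNorm (v : GolayPt → ℤ) = 32 ∧ sqNorm ((u - v : GolayPt → ℤ)) = 32) ↔
      (sqNorm (v : GolayPt → ℤ) = 32 ∧ dotInt (u : GolayPt → ℤ) v = 24) := by
  rw [sqNorm_sub, hu]
  constructor <;> rintro ⟨h1, h2⟩ <;> exact ⟨h1, by omega⟩

theorem co3_pairs {u : ↥leechLattice} (hu : sqNorm (u : GolayPt → ℤ) = 48) :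
    {v : ↥leechLattice | sqNorm (v : GolayPt → ℤ) = 32 ∧
      sqNorm ((u - v : GolayPt → ℤ)) = 32}.ncard = 552 := by
  rw [← ncard48_24 hu]
  congr 1
  ext v
  exact pair24_iff hu

/-- the order of the stabilizer of a pair with an orbit of known size -/
theorem natCard_pair {v w : ↥leechLattice} {T : Set ↥leechLattice} (hw : w ∈ T)
    (hinv : ∀ g : ↥Co0, g • v = v → ∀ x ∈ T, g • x ∈ T)
    (htr : ∀ x ∈ T, ∃ g : ↥Co0, g • v = v ∧ g • w = x) {c m n : ℕ} (hT : T.ncard = c)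
    (hn : Nat.card ↥(MulAction.stabilizer ↥Co0 v) = n) (hm : c * m = n) (hc : 0 < c) :
    Nat.card ↥(MulAction.stabilizer ↥Co0 v ⊓ MulAction.stabilizer ↥Co0 w) = m := by
  haveI := finite_Co0
  set H := MulAction.stabilizer ↥Co0 v
  have h := Nat.card_congr (MulAction.orbitProdStabilizerEquivGroup H w)
  rw [Nat.card_prod, hn] at h
  have horb : Nat.card (MulAction.orbit H w) = c := by
    rw [Nat.card_coe_set_eq, ← hT]
    congr 1
    ext x
    constructor
    · rintro ⟨g, rfl⟩; exact hinv g.1 g.2 w hw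
    · intro hx
      obtain ⟨g, hg, hgw⟩ := htr x hx
      exact ⟨⟨g, hg⟩, hgw⟩
  have hst : Nat.card (MulAction.stabilizer H w) = Nat.card ↥(H ⊓ MulAction.stabilizer ↥Co0 w) :=
    Nat.card_congr
      { toFun := fun g => ⟨g.1.1, g.1.2, g.2⟩
        invFun := fun g => ⟨⟨g.1, g.2.1⟩, g.2.2⟩
        left_inv := fun _ => rfl
        right_inv := fun _ => rfl }
  rw [horb, hst] at h
  exact Nat.eq_of_mul_eq_mul_left hc (h.trans hm.symm)

theorem dot_invariant (v : ↥leechLattice) (n d : ℤ) : ∀ g : ↥Co0, g • v = v →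
    ∀ x ∈ {x : ↥leechLattice | sqNorm (x : GolayPt → ℤ) = n ∧ dotInt (v : GolayPt → ℤ) x = d},
      g • x ∈ {x : ↥leechLattice | sqNorm (x : GolayPt → ℤ) = n ∧ dotInt (v : GolayPt → ℤ) x = d} := by
  rintro g hg x ⟨hx, hd⟩
  refine ⟨(sqNorm_smul g x).trans hx, ?_⟩
  rw [← hd, ← dotInt_smul g v x, hg]

theorem natCard_mcl {v w : ↥leechLattice} (hv : sqNorm (v : GolayPt → ℤ) = 32)
    (hw : sqNorm (w : GolayPt → ℤ) = 32) (hvw : dotInt (v : GolayPt → ℤ) w = -8) :
    Nat.card ↥(MulAction.stabilizer ↥Co0 v ⊓ MulAction.stabilizer ↥Co0 w) = 898128000 :=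
  natCard_pair (c := 47104)
    (T := {x : ↥leechLattice | sqNorm (x : GolayPt → ℤ) = 32 ∧ dotInt (v : GolayPt → ℤ) x = -8})
    ⟨hw, hvw⟩ (dot_invariant v 32 (-8))
    (fun _ hx => trans32 hv hw hx.1 (by norm_num) hvw hx.2) (census32 hv).2.1 (natCard_stab32 hv)
    (by norm_num) (by norm_num)

/-- the sum of a pair of norm 48 with product -32 -/
theorem hs_sum {v w : ↥leechLattice} (hv : sqNorm (v : GolayPt → ℤ) = 48)
    (hw : sqNorm (w : GolayPt → ℤ) = 48) (hvw : dotInt (v : GolayPt → ℤ) w = -32) :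
    sqNorm ((v + w : ↥leechLattice) : GolayPt → ℤ) = 32 ∧
      dotInt (v : GolayPt → ℤ) (v + w : ↥leechLattice) = 16 ∧
      dotInt (w : GolayPt → ℤ) (v + w : ↥leechLattice) = 16 := by
  rw [AddSubgroup.coe_add, sqNorm_add, dotInt_add_right, dotInt_add_right, ← sqNorm_eq_dotInt,
    ← sqNorm_eq_dotInt, dotInt_comm (w : GolayPt → ℤ) v, hv, hw, hvw]
  norm_num

theorem hs_stab_eq (v w : ↥leechLattice) :
    MulAction.stabilizer ↥Co0 v ⊓ MulAction.stabilizer ↥Co0 w =
      MulAction.stabilizer ↥Co0 v ⊓ MulAction.stabilizer ↥Co0 (v + w) := by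
  ext g
  simp only [Subgroup.mem_inf, MulAction.mem_stabilizer_iff, smul_add']
  constructor
  · rintro ⟨h1, h2⟩; exact ⟨h1, by rw [h1, h2]⟩
  · rintro ⟨h1, h2⟩; rw [h1] at h2; exact ⟨h1, add_left_cancel h2⟩

theorem natCard_hs {v w : ↥leechLattice} (hv : sqNorm (v : GolayPt → ℤ) = 48)
    (hw : sqNorm (w : GolayPt → ℤ) = 48) (hvw : dotInt (v : GolayPt → ℤ) w = -32) :
    Nat.card ↥(MulAction.stabilizer ↥Co0 v ⊓ MulAction.stabilizer ↥Co0 w) = 44352000 := by
  obtain ⟨hs, hvs, -⟩ := hs_sum hv hw hvw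
  rw [hs_stab_eq]
  exact natCard_pair (c := 11178)
    (T := {x : ↥leechLattice | sqNorm (x : GolayPt → ℤ) = 32 ∧ dotInt (v : GolayPt → ℤ) x = 16})
    ⟨hs, hvs⟩ (dot_invariant v 32 16)
    (fun _ hx => trans48 hv hs hx.1 (by norm_num) hvs hx.2) (ncard48_16 hv) (natCard_stab48 hv)
    (by norm_num) (by norm_num)

theorem hs_swap {v w : ↥leechLattice} (hv : sqNorm (v : GolayPt → ℤ) = 48)
    (hw : sqNorm (w : GolayPt → ℤ) = 48) (hvw : dotInt (v : GolayPt → ℤ) w = -32) :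
    ∃ g : ↥Co0, g • v = w ∧ g • w = v := by
  obtain ⟨hs, hvs, hws⟩ := hs_sum hv hw hvw
  obtain ⟨g0, hg0⟩ := transitive_small (t := 2) (by norm_num) hv hw
  have hd : dotInt (w : GolayPt → ℤ) (g0 • (v + w) : ↥leechLattice) = 16 := by
    have := (dotInt_smul g0 v (v + w)).trans hvs
    rwa [hg0] at this
  obtain ⟨g1, hg1, hg1'⟩ := trans48 hw ((sqNorm_smul g0 _).trans hs) hs (by norm_num) hd hws
  have h1 : (g1 * g0) • v = w := by rw [mul_smul, hg0, hg1]
  refine ⟨g1 * g0, h1, ?_⟩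
  have h2 : (g1 * g0) • (v + w) = v + w := by rw [mul_smul]; exact hg1'
  rw [smul_add', h1, add_comm v w] at h2
  exact add_left_cancel h2

/-! ### Simplicity -/

theorem eight_four : ((eightL none : ↥leechLattice) : GolayPt → ℤ) = four 8 0 0 0 ∧
    ((eightL (some 0) : ↥leechLattice) : GolayPt → ℤ) = four 0 8 0 0 := by
  constructor <;>
  · funext i
    obtain ⟨g1, g2, g3, g4⟩ := four_values 8 0 0 0
    simp [eightL, eight, four, Pi.single_apply]

theorem a32_four : (a32 : GolayPt → ℤ) = four (-3) 1 1 1 := by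
  funext i
  obtain ⟨g1, g2, g3, g4⟩ := four_values (-3) 1 1 1
  rcases four_cases i with rfl | rfl | hi | hi
  · rw [g1]; simp [a32]
  · rw [g2]; simp [a32]
  · rw [g3 i hi]
    have : i ≠ none := fun e => absurd (e ▸ hi) (by decide +kernel)
    simp [a32, this]
  · rw [g4 i hi]
    have : i ≠ none := fun e => absurd (e ▸ hi) (by decide +kernel)
    simp [a32, this]

theorem a48_four : (a48 : GolayPt → ℤ) = four 5 1 1 1 := by
  funext i
  rw [a48, AddSubgroup.coe_add, Pi.add_apply, a32_four, eight_four.1]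
  simp only [four]
  split_ifs <;> norm_num

/-- the second vector for the pair of norm 32 -/
def w32 : ↥leechLattice := ⟨pairV none (some 0), pairV_mem _ _⟩

/-- the second vector for the pair of norm 48 -/
def s48 : ↥leechLattice := w32 - eightL (some 0)

theorem w32_four : (w32 : GolayPt → ℤ) = four 4 4 0 0 := by
  funext i; simp [w32, pairV, four]

theorem s48_four : (s48 : GolayPt → ℤ) = four 4 (-4) 0 0 := by
  funext i
  rw [s48, AddSubgroup.coe_sub, Pi.sub_apply, w32_four, eight_four.2]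
  simp only [four]
  split_ifs <;> norm_num

theorem four_solve32 {a b c d : ℤ} (h1 : -3 * a + 1 * b + 11 * (1 * c) + 11 * (1 * d) = -24)
    (h2 : 4 * a + 4 * b + 11 * (0 * c) + 11 * (0 * d) = 32)
    (h3 : a * a + b * b + 11 * (c * c) + 11 * (d * d) = 64) : a = 8 ∧ b = 0 ∧ c = 0 ∧ d = 0 := by
  have ha1 : -8 ≤ a := by nlinarith
  have ha2 : a ≤ 8 := by nlinarith
  have hcd : a = 8 ∨ a = -3 := by omega
  obtain rfl : b = 8 - a := by omega
  rcases hcd with rfl | rfl
  · have hc : c * c = 0 := by nlinarith [mul_self_nonneg c, mul_self_nonneg d]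
    have hd : d * d = 0 := by nlinarith [mul_self_nonneg c, mul_self_nonneg d]
    exact ⟨rfl, by norm_num, mul_self_eq_zero.1 hc, mul_self_eq_zero.1 hd⟩
  · exfalso; nlinarith [mul_self_nonneg (c - d)]

theorem four_solve48 {a b c d : ℤ} (h1 : 5 * a + 1 * b + 11 * (1 * c) + 11 * (1 * d) = 40)
    (h2 : 4 * a + -4 * b + 11 * (0 * c) + 11 * (0 * d) = 32)
    (h3 : a * a + b * b + 11 * (c * c) + 11 * (d * d) = 64) : a = 8 ∧ b = 0 ∧ c = 0 ∧ d = 0 := by
  have ha1 : -8 ≤ a := by nlinarith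
  have ha2 : a ≤ 8 := by nlinarith
  have hcd : a = 8 ∨ a = -3 := by omega
  obtain rfl : b = a - 8 := by omega
  rcases hcd with rfl | rfl
  · have hc : c * c = 0 := by nlinarith [mul_self_nonneg c, mul_self_nonneg d]
    have hd : d * d = 0 := by nlinarith [mul_self_nonneg c, mul_self_nonneg d]
    exact ⟨rfl, by norm_num, mul_self_eq_zero.1 hc, mul_self_eq_zero.1 hd⟩
  · exfalso; nlinarith [mul_self_nonneg (c - d)]

/-- a normalising element fixes the axis -/
theorem axis_fixed {v w : ↥leechLattice} {a b c a' b' : ℤ} (hv : (v : GolayPt → ℤ) = four a b c c)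
    (hw : (w : GolayPt → ℤ) = four a' b' 0 0)
    (hsolve : ∀ p q r s : ℤ, a * p + b * q + 11 * (c * r) + 11 * (c * s) = a * 8 →
      a' * p + b' * q + 11 * (0 * r) + 11 * (0 * s) = a' * 8 →
      p * p + q * q + 11 * (r * r) + 11 * (s * s) = 64 → p = 8 ∧ q = 0 ∧ r = 0 ∧ s = 0)
    {y : ↥Co0} (hy : y ∈ MulAction.stabilizer ↥Co0 v ⊓ MulAction.stabilizer ↥Co0 w)
    (hn : y⁻¹ * seed11 * y ∈ Subgroup.zpowers seed11) : y • eightL none = eightL none := by
  have hst : Subgroup.zpowers seed11 ≤ MulAction.stabilizer ↥Co0 (eightL none) :=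
    Subgroup.zpowers_le.2 (seed11_fix eight_four.1)
  have h2 : seed11 • y • eightL none = y • eightL none := by
    have := MulAction.mem_stabilizer_iff.1 (hst hn)
    rw [mul_smul, mul_smul, inv_smul_eq_iff] at this
    exact this
  obtain ⟨p, q, r, s, he⟩ := four_of_fixed h2
  obtain ⟨hyv, hyw⟩ := Subgroup.mem_inf.1 hy
  have e1 := dotInt_smul y v (eightL none)
  rw [MulAction.mem_stabilizer_iff.1 hyv, hv, he, eight_four.1, dotInt_four, dotInt_four] at e1
  have e2 := dotInt_smul y w (eightL none)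
  rw [MulAction.mem_stabilizer_iff.1 hyw, hw, he, eight_four.1, dotInt_four, dotInt_four] at e2
  have e3 := sqNorm_smul y (eightL none)
  rw [he, eight_four.1, sqNorm_eq_dotInt, sqNorm_eq_dotInt, dotInt_four, dotInt_four] at e3
  obtain ⟨rfl, rfl, rfl, rfl⟩ := hsolve p q r s (by simpa using e1) (by simpa using e2)
    (by simpa using e3)
  exact Subtype.ext (he.trans eight_four.1.symm)

theorem small11 {n : ℕ} (hn : 0 < n) (hlt : n < 2 ^ 64) (hdvd : n ∣ 8315553613086720000)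
    (hchk : ∀ p ∈ [2, 3, 5, 7, 11, 13, 23], ∀ e ∈ List.range 64, n % p ^ e = 0 → p ^ e % 11 = 1 → e = 0 ∨ p ^ e = 243) :
    ∀ p, p.Prime → p ∣ n → ∀ e, p ^ e ∣ n → p ^ e % 11 = 1 → e = 0 ∨ p ^ e = 243 := fun p hp hd e he h1 =>
  hchk p (prime_cases hp (hd.trans hdvd)) e (List.mem_range.2 (exp_lt hp hn hlt he))
    (Nat.mod_eq_zero_of_dvd he) h1

theorem mcl_simple0 :
    IsSimpleGroup ↥(MulAction.stabilizer ↥Co0 a32 ⊓ MulAction.stabilizer ↥Co0 w32) := by
  have hw : sqNorm (w32 : GolayPt → ℤ) = 32 := sqNorm_pairV (by simp)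
  have hd : dotInt (a32 : GolayPt → ℤ) (w32 : GolayPt → ℤ) = -8 := by
    rw [a32_four, w32_four, dotInt_four]; norm_num
  have hcard := natCard_mcl a32_facts.2.2 hw hd
  refine isSimpleGroup_of_seed11 (le_inf (range_fix a32_four) (range_fix w32_four))
    (by rw [hcard]; norm_num) (by rw [hcard]; norm_num) ?_ fun y hy hn => ?_
  · rw [hcard]
    exact small11 (by norm_num) (by norm_num) (by norm_num) (by decide +kernel)
  · have h8 := axis_fixed a32_four w32_four
      (fun p q r s h1 h2 h3 => four_solve32 (h1.trans (by norm_num)) (h2.trans (by norm_num)) h3) hy hn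
    have e : eightL (some 0) = w32 + w32 - eightL none := Subtype.ext (by
      rw [AddSubgroup.coe_sub, AddSubgroup.coe_add, w32_four, eight_four.1, eight_four.2]
      funext i
      simp only [four, Pi.sub_apply, Pi.add_apply]
      split_ifs <;> norm_num)
    refine mem_range_of_fix h8 ?_ a32_four (Subgroup.mem_inf.1 hy).1
    rw [e, smul_sub', smul_add', (Subgroup.mem_inf.1 hy).2, h8]

theorem hs_simple0 :
    IsSimpleGroup ↥(MulAction.stabilizer ↥Co0 a48 ⊓ MulAction.stabilizer ↥Co0 (s48 - a48)) := by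
  rw [hs_stab_eq, add_sub_cancel]
  have hn48 := a48_facts.2.2
  have hd : dotInt (a48 : GolayPt → ℤ) (s48 : GolayPt → ℤ) = 16 := by
    rw [a48_four, s48_four, dotInt_four]; norm_num
  have hs : sqNorm (s48 : GolayPt → ℤ) = 32 := by
    rw [sqNorm_eq_dotInt, s48_four, dotInt_four]; norm_num
  have hcard : Nat.card ↥(MulAction.stabilizer ↥Co0 a48 ⊓ MulAction.stabilizer ↥Co0 s48) = 44352000 := by
    have := natCard_hs (v := a48) (w := s48 - a48) hn48
      (by rw [AddSubgroup.coe_sub, sqNorm_sub, hs, hn48, dotInt_comm, hd]; norm_num)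
      (by rw [AddSubgroup.coe_sub, dotInt_sub_right, hd, ← sqNorm_eq_dotInt, hn48]; norm_num)
    rwa [hs_stab_eq, add_sub_cancel] at this
  refine isSimpleGroup_of_seed11 (le_inf (range_fix a48_four) (range_fix s48_four))
    (by rw [hcard]; norm_num) (by rw [hcard]; norm_num) ?_ fun y hy hn => ?_
  · rw [hcard]
    exact small11 (by norm_num) (by norm_num) (by norm_num) (by decide +kernel)
  · have h8 := axis_fixed a48_four s48_four
      (fun p q r s h1 h2 h3 => four_solve48 (h1.trans (by norm_num)) (h2.trans (by norm_num)) h3) hy hn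
    have e : eightL (some 0) = eightL none - (s48 + s48) := Subtype.ext (by
      rw [AddSubgroup.coe_sub, AddSubgroup.coe_add, s48_four, eight_four.1, eight_four.2]
      funext i
      simp only [four, Pi.sub_apply, Pi.add_apply]
      split_ifs <;> norm_num)
    refine mem_range_of_fix h8 ?_ a48_four (Subgroup.mem_inf.1 hy).1
    rw [e, smul_sub', smul_add', (Subgroup.mem_inf.1 hy).2, h8]

theorem pair_stab_equiv {v w v' w' : ↥leechLattice} {g : ↥Co0} (hv : g • v = v') (hw : g • w = w') :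
    Nonempty (↥(MulAction.stabilizer ↥Co0 v ⊓ MulAction.stabilizer ↥Co0 w) ≃*
      ↥(MulAction.stabilizer ↥Co0 v' ⊓ MulAction.stabilizer ↥Co0 w')) := by
  refine ⟨((MulAut.conj g).subgroupMap _).trans (MulEquiv.subgroupCongr ?_)⟩
  rw [Subgroup.map_inf _ _ _ (MulAut.conj g).injective, ← hv, ← hw,
    MulAction.stabilizer_smul_eq_stabilizer_map_conj, MulAction.stabilizer_smul_eq_stabilizer_map_conj]
  rfl

theorem isMcL_pair {v w : ↥leechLattice} (hv : sqNorm (v : GolayPt → ℤ) = 32)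
    (hw : sqNorm (w : GolayPt → ℤ) = 32) (hvw : dotInt (v : GolayPt → ℤ) w = -8) :
    IsMcL ↥(MulAction.stabilizer ↥Co0 v ⊓ MulAction.stabilizer ↥Co0 w) := by
  refine ⟨?_, natCard_mcl hv hw hvw⟩
  obtain ⟨g, hg⟩ := transitive_small (t := 1) (by norm_num) a32_facts.2.2 hv
  have hd : dotInt (v : GolayPt → ℤ) (g • w32 : ↥leechLattice) = -8 := by
    rw [← hg, dotInt_smul, a32_four, w32_four, dotInt_four]; norm_num
  obtain ⟨k, hk, hk'⟩ := trans32 hv ((sqNorm_smul g _).trans (sqNorm_pairV (by simp))) hw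
    (by norm_num) hd hvw
  obtain ⟨e⟩ := pair_stab_equiv (v := a32) (w := w32) (g := k * g)
    (show (k * g) • a32 = v by rw [mul_smul, hg, hk]) (show (k * g) • w32 = w by rw [mul_smul, hk'])
  haveI := mcl_simple0
  exact e.symm.isSimpleGroup

theorem isHS_pair {v w : ↥leechLattice} (hv : sqNorm (v : GolayPt → ℤ) = 48)
    (hw : sqNorm (w : GolayPt → ℤ) = 48) (hvw : dotInt (v : GolayPt → ℤ) w = -32) :
    IsHS ↥(MulAction.stabilizer ↥Co0 v ⊓ MulAction.stabilizer ↥Co0 w) := by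
  refine ⟨?_, natCard_hs hv hw hvw⟩
  obtain ⟨hs, hvs, -⟩ := hs_sum hv hw hvw
  obtain ⟨g, hg⟩ := transitive_small (t := 2) (by norm_num) a48_facts.2.2 hv
  have hd : dotInt (v : GolayPt → ℤ) (g • s48 : ↥leechLattice) = 16 := by
    rw [← hg, dotInt_smul, a48_four, s48_four, dotInt_four]; norm_num
  have hn : sqNorm ((g • s48 : ↥leechLattice) : GolayPt → ℤ) = 32 := by
    rw [sqNorm_smul, sqNorm_eq_dotInt, s48_four, dotInt_four]; norm_num
  obtain ⟨k, hk, hk'⟩ := trans48 hv hn hs (by norm_num) hd hvs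
  have h1 : (k * g) • a48 = v := by rw [mul_smul, hg, hk]
  obtain ⟨e⟩ := pair_stab_equiv (v := a48) (w := s48 - a48) (g := k * g) h1
    (show (k * g) • (s48 - a48) = w by rw [smul_sub', h1, mul_smul, hk', add_sub_cancel_left])
  haveI := hs_simple0
  exact e.symm.isSimpleGroup

end CfsgLib.Leech
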