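import Cfsg.Agent.Lib.Leech.Sub.Engine

/-!
Packed integer matrices, and glueing given by words in a few automorphisms.
-/

set_option autoImplicit false
set_option maxRecDepth 10000

namespace CfsgLib.Leech

open Cfsg CfsgLib.Golay

attribute [local irreducible] dL bL key keyL coord packB linL bits

/-- a row of 24 entries between -32 and 31 stored in one number -/
def unRow (n : ℕ) : List ℤ := (List.range 24).map fun i => Int.subNatNat ((n >>> (6 * i)) &&& 63) 32

/-- rows stored as numbers -/
def unMat (l : List ℕ) : List (List ℤ) := l.map unRow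

/-- checks of an automorphism given with its action on classes -/
def autoOK (fix : List ℕ) (A : List (List ℤ) × List ℕ) : Bool :=
  autOK A.1 && A.1.map keyL == A.2 && fixOK fix A.2

/-- follow a word through tables -/
def runWord (G : List (List ℕ)) : List ℕ → ℕ → ℕ
  | [], k => k
  | i :: is, k => runWord G is (comb (G.getD i []) k)

/-- checks of one glueing word -/
def wordOK (C : SubCert) (G : List (List ℕ)) (e : ℕ × ℕ × List ℕ) : Bool :=
  decide (e.1 < C.starts.length) && e.2.2.all (fun i => decide (i < G.length)) &&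
    runWord G e.2.2 (C.startK e.1) == e.2.1

/-- the glueing entries without automorphisms -/
def wordGlue (ws : List (ℕ × ℕ × List ℕ)) : List (ℕ × ℕ × List (List ℤ)) :=
  ws.map fun e => (e.1, e.2.1, [])

/-- all checks for glueing by words -/
def wordsOK (C : SubCert) (autos : List (List (List ℤ) × List ℕ)) (ws : List (ℕ × ℕ × List ℕ)) :
    Bool :=
  autos.all (autoOK C.fix) &&
    ws.all (wordOK C (C.base.map (fun g => g.2.2) ++ autos.map fun A => A.2))

theorem runWord_sound {fix : List ℕ} (hfix : ∀ k ∈ fix, k < 2 ^ 24) {G : List (List ℕ)}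
    (hG : ∀ cols ∈ G, ∃ g, FixAll fix g ∧ ∀ k, k < 2 ^ 24 → act g k = comb cols k) :
    ∀ (w : List ℕ) (k : ℕ), k < 2 ^ 24 → (∀ i ∈ w, i < G.length) →
      ∃ g, FixAll fix g ∧ act g k = runWord G w k := by
  intro w
  induction w with
  | nil => intro k hk _; exact ⟨1, fixAll_one hfix, by rw [act_one hk]; rfl⟩
  | cons i is ih =>
    intro k hk hw
    simp only [List.mem_cons, forall_eq_or_imp] at hw
    obtain ⟨s, hs, hsk⟩ := hG (G.getD i []) (by
      rw [List.getD_eq_getElem _ _ hw.1]; exact List.getElem_mem hw.1)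
    have hlt : comb (G.getD i []) k < 2 ^ 24 := hsk k hk ▸ act_lt s k
    obtain ⟨g, hg, hgk⟩ := ih _ hlt hw.2
    exact ⟨g * s, hg.mul hs, by rw [act_mul, hsk k hk, hgk]; rfl⟩

theorem subValid_of_words {C : SubCert} {autos : List (List (List ℤ) × List ℕ)}
    {ws : List (ℕ × ℕ × List ℕ)} (hC : C.glue = wordGlue ws) (hcore : subCore C = true)
    (h : wordsOK C autos ws = true) : SubValid C := by
  have hc := hcore
  simp only [subCore, Bool.and_eq_true, List.all_eq_true, decide_eq_true_eq] at hc
  have hfix : ∀ k ∈ C.fix, k < 2 ^ 24 := fun k hk => by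
    have := hc.1.1.1.1 k hk
    norm_num
    exact this
  simp only [wordsOK, Bool.and_eq_true, List.all_eq_true] at h
  have hG : ∀ cols ∈ C.base.map (fun g => g.2.2) ++ autos.map (fun A => A.2),
      ∃ g, FixAll C.fix g ∧ ∀ k, k < 2 ^ 24 → act g k = comb cols k := by
    intro cols hcols
    rcases List.mem_append.1 hcols with hm | hm <;> obtain ⟨x, hx, rfl⟩ := List.mem_map.1 hm
    · have hxok := hc.1.1.2 x hx
      simp only [fixOK, List.all_eq_true, beq_iff_eq] at hxok
      obtain ⟨g, -, hga⟩ := genOK_spec hxok.1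
      exact ⟨g, fun k hk => by rw [hga k (hfix k hk), hxok.2 k hk], hga⟩
    · have hxok := h.1 x hx
      simp only [autoOK, fixOK, Bool.and_eq_true, List.all_eq_true, beq_iff_eq] at hxok
      obtain ⟨⟨haut, hcl⟩, hf⟩ := hxok
      have e : ∀ k, k < 2 ^ 24 → act (linIso haut).aut k = comb x.2 k := fun k hk => by
        rw [act_lin haut hk, hcl]
      exact ⟨_, fun k hk => by rw [e k (hfix k hk), hf k hk], e⟩
  refine ⟨hcore, fun e he => ?_⟩
  rw [hC, wordGlue, List.mem_map] at he
  obtain ⟨w, hw, rfl⟩ := he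
  have hwok := h.2 w hw
  simp only [wordOK, Bool.and_eq_true, decide_eq_true_eq, List.all_eq_true, beq_iff_eq] at hwok
  obtain ⟨⟨hlen, hidx⟩, hrun⟩ := hwok
  refine ⟨hlen, ?_⟩
  have hmem : C.starts.getD w.1 [] ∈ C.starts := by
    rw [List.getD_eq_getElem _ _ hlen]; exact List.getElem_mem hlen
  have hs : C.startK w.1 < 2 ^ 24 := by
    have := hc.1.1.1.2 _ hmem
    rw [SubCert.startK, ← keyL_eq (inL_length this.1)]
    exact key_lt _
  obtain ⟨g, hg, hgk⟩ := runWord_sound hfix hG w.2.2 _ hs hidx
  exact ⟨g, hg, hgk.trans hrun⟩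

end CfsgLib.Leech
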