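import Cfsg.Agent.Lib.Leech.Counts
import Cfsg.Agent.Lib.Leech.Co0

/-!
Certified orbits on short classes of the subgroup fixing given classes.
-/

set_option autoImplicit false
set_option maxRecDepth 10000

namespace CfsgLib.Leech

open Cfsg CfsgLib.Golay

attribute [local irreducible] dL bL key keyL coord packB linL bits

/-- a certificate for the orbits on short classes -/
structure SubCert where
  /-- the fixed classes -/
  fix : List ℕ
  /-- the representatives of the orbits -/
  starts : List (List ℤ)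
  /-- signed permutations fixing the classes -/
  base : List (ℕ × ℕ × List ℕ)
  /-- the fibres -/
  fibs : List FibreCert
  /-- automorphisms carrying representatives into the fibres -/
  glue : List (ℕ × ℕ × List (List ℤ))

/-- the matrix fixes the classes -/
def fixOK (fix : List ℕ) (cols : List ℕ) : Bool := fix.all fun k => comb cols k == k

/-- the class of a representative -/
def SubCert.startK (C : SubCert) (i : ℕ) : ℕ := keyL (C.starts.getD i [])

/-- checks of one glueing automorphism -/
def subGlueOK (C : SubCert) (e : ℕ × ℕ × List (List ℤ)) : Bool :=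
  decide (e.1 < C.starts.length) && autOK e.2.2 && fixOK C.fix (e.2.2.map keyL) &&
    comb (e.2.2.map keyL) (C.startK e.1) == e.2.1

/-- checks of one fibre orbit -/
def subOrbOK (C : SubCert) (F : FibreCert) (O : OrbCert) : Bool :=
  decide (O.rep < 16777216) && lo O.rep == F.low &&
    (C.glue.any fun e => e.1 == O.typ && e.2.1 == O.rep) &&
    walkC (F.gens.map fun g => g.2.2) hi (fun k => lo k == F.low) O.fuel O.code [O.rep]
      (1 <<< hi O.rep) == some O.acc

/-- checks of one fibre -/
def subFibOK (C : SubCert) (F : FibreCert) : Bool :=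
  baseOK C.base F && F.gens.all (fun g => genOK g && fixOK C.fix g.2.2) && F.orbs.all (subOrbOK C F)

/-- pairwise disjointness of marks -/
def disjAcc : List ℕ → Bool
  | [] => true
  | a :: as => as.all (fun b => a &&& b == 0) && disjAcc as

/-- all checks but those of the glueing -/
def subCore (C : SubCert) : Bool :=
  C.fix.all (fun k => decide (k < 16777216)) &&
    C.starts.all (fun l => inL l && dotL l l == 32) &&
    C.base.all (fun g => genOK g && fixOK C.fix g.2.2) &&
    C.fibs.all (subFibOK C) && disjAcc (C.fibs.map fun F => F.acc)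

/-- all checks -/
def subOK (C : SubCert) : Bool := subCore C && C.glue.all (subGlueOK C)

/-- the marks of the selected orbits -/
def selAcc (P : ℕ → Bool) : List OrbCert → ℕ
  | [] => 0
  | O :: Os => (if P O.typ then O.acc else 0) ||| selAcc P Os

/-- the number of classes certified in the selected orbits -/
def SubCert.cnt (C : SubCert) (P : ℕ → Bool) : ℕ :=
  (C.fibs.map fun F => bits F.acc * bits (selAcc P F.orbs)).sum

/-- the automorphism fixes the classes of the certificate -/
def FixAll (fix : List ℕ) (g : ↥Co0) : Prop := ∀ k ∈ fix, act g k = k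

theorem FixAll.mul {fix : List ℕ} {g h : ↥Co0} (hg : FixAll fix g) (hh : FixAll fix h) :
    FixAll fix (g * h) := fun k hk => by rw [act_mul, hh k hk, hg k hk]

theorem fixAll_one {fix : List ℕ} (h : ∀ k ∈ fix, k < 2 ^ 24) : FixAll fix 1 :=
  fun k hk => act_one (h k hk)

theorem FixAll.inv {fix : List ℕ} (h : ∀ k ∈ fix, k < 2 ^ 24) {g : ↥Co0} (hg : FixAll fix g) :
    FixAll fix g⁻¹ := fun k hk => by
  conv_lhs => rw [← hg k hk]
  exact act_inv_act g (h k hk)

/-- the classes reached from a representative -/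
def SubCert.Reach (C : SubCert) (i : ℕ) : Set ℕ :=
  {k | k < 2 ^ 24 ∧ ∃ g, FixAll C.fix g ∧ act g (C.startK i) = k}

/-- a certificate with sound glueing -/
structure SubValid (C : SubCert) : Prop where
  core : subCore C = true
  glue : ∀ e ∈ C.glue, e.1 < C.starts.length ∧ ∃ g, FixAll C.fix g ∧ act g (C.startK e.1) = e.2.1

variable {C : SubCert}

theorem subOK_fix (hv : SubValid C) : ∀ k ∈ C.fix, k < 2 ^ 24 := by
  have h := hv.core
  simp only [subCore, Bool.and_eq_true, List.all_eq_true, decide_eq_true_eq] at h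
  intro k hk
  have := h.1.1.1.1 k hk
  norm_num
  exact this

theorem subOK_start (hv : SubValid C) {i : ℕ} (hi : i < C.starts.length) :
    ∃ w : ↥leechLattice, sqNorm (w : GolayPt → ℤ) = 32 ∧
      (w : GolayPt → ℤ) = vec (C.starts.getD i []) ∧ key (w : GolayPt → ℤ) = C.startK i := by
  have h := hv.core
  simp only [subCore, Bool.and_eq_true, List.all_eq_true] at h
  have hmem : C.starts.getD i [] ∈ C.starts := by
    rw [List.getD_eq_getElem _ _ hi]; exact List.getElem_mem hi
  have := h.1.1.1.2 _ hmem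
  simp only [beq_iff_eq] at this
  exact ⟨⟨_, vec_mem this.1⟩, (sqNorm_vec (inL_length this.1)).trans this.2, rfl,
    keyL_eq (inL_length this.1)⟩

theorem reach_typeSet (h : SubValid C) {i : ℕ} (hi : i < C.starts.length) :
    C.Reach i ⊆ typeSet 1 := by
  obtain ⟨w, hw, -, hk⟩ := subOK_start h hi
  rintro k ⟨hklt, g, -, rfl⟩
  refine ⟨hklt, ?_⟩
  rw [← hk]
  exact (typ_of_norm (t := 1) (by norm_num) hw).act g

theorem testBit_selAcc (P : ℕ → Bool) : ∀ (l : List OrbCert) (b : ℕ),
    (selAcc P l).testBit b = true → ∃ O ∈ l, P O.typ = true ∧ O.acc.testBit b = true := by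
  intro l
  induction l with
  | nil => intro b h; simp [selAcc] at h
  | cons O Os ih =>
    intro b h
    rw [selAcc, Nat.testBit_or, Bool.or_eq_true] at h
    rcases h with h | h
    · by_cases hP : P O.typ
      · exact ⟨O, List.mem_cons_self, hP, by rw [if_pos hP] at h; exact h⟩
      · rw [if_neg hP, Nat.zero_testBit] at h; exact absurd h (by simp)
    · obtain ⟨Q, hQ, hQP, hQb⟩ := ih b h
      exact ⟨Q, List.mem_cons_of_mem _ hQ, hQP, hQb⟩

theorem sub_orb_reach (hv : SubValid C) {F : FibreCert} (hF : F ∈ C.fibs) {O : OrbCert}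
    (hO : O ∈ F.orbs) {b : ℕ} (hb : O.acc.testBit b = true) :
    O.typ < C.starts.length ∧ ∃ k ∈ C.Reach O.typ, lo k = F.low ∧ hi k = b := by
  have hfix := subOK_fix hv
  have h := hv.core
  simp only [subCore, Bool.and_eq_true, List.all_eq_true] at h
  have hf := h.1.2 F hF
  simp only [subFibOK, Bool.and_eq_true, List.all_eq_true] at hf
  obtain ⟨⟨-, hg⟩, horb⟩ := hf
  have ho := horb O hO
  simp only [subOrbOK, Bool.and_eq_true, decide_eq_true_eq, beq_iff_eq, List.any_eq_true] at ho
  obtain ⟨⟨⟨hr, hlo⟩, e, he, het, her⟩, hw⟩ := ho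
  have hr' : O.rep < 2 ^ 24 := by norm_num; exact hr
  obtain ⟨hlen, g0, hg0, hg0'⟩ := hv.glue e he
  rw [het] at hlen hg0'
  rw [her] at hg0'
  obtain ⟨g, hgR, hgb, hgl⟩ := walkC_sound (R := FixAll C.fix) (fun _ _ a b => a.mul b)
    (fun cols hc => by
      obtain ⟨x, hx, rfl⟩ := List.mem_map.1 hc
      have hxok := hg x hx
      simp only [fixOK, List.all_eq_true, beq_iff_eq] at hxok
      obtain ⟨g, -, hga⟩ := genOK_spec hxok.1
      exact ⟨g, fun k hk' => by rw [hga k (hfix k hk'), hxok.2 k hk'], hga⟩)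
    _ _ _ _ _ hw
    (fun k hk' => ⟨1, fixAll_one hfix, by rw [List.mem_singleton.1 hk', act_one hr']⟩)
    (fun c hc => by
      rw [Nat.one_shiftLeft, Nat.testBit_two_pow, decide_eq_true_eq] at hc
      exact ⟨1, fixAll_one hfix, by rw [act_one hr', hc], by rw [act_one hr', beq_iff_eq, hlo]⟩)
    b hb
  exact ⟨hlen, act g O.rep, ⟨act_lt _ _, g * g0, hgR.mul hg0,
    by rw [act_mul, hg0']⟩, by simpa using hgl, hgb⟩

/-- the classes of one fibre in the selected orbits are at least as many as certified -/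
theorem fibre_le (h : SubValid C) {F : FibreCert} (hF : F ∈ C.fibs) (P : ℕ → Bool) {S : Set ℕ}
    (hS : S.Finite) (hsub : ∀ i k, i < C.starts.length → P i = true → k ∈ C.Reach i → k ∈ S) :
    bits F.acc * bits (selAcc P F.orbs) ≤ {k | k ∈ S ∧ F.acc.testBit (lo k) = true}.ncard := by
  classical
  have hfix := subOK_fix h
  have h' := h.core
  simp only [subCore, Bool.and_eq_true, List.all_eq_true] at h'
  have hb0 := h'.1.2 F hF
  simp only [subFibOK, Bool.and_eq_true] at hb0
  have hbase := hb0.1.1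
  have hN := h'.1.1.2
  simp only [baseOK, Bool.and_eq_true, decide_eq_true_eq, List.all_eq_true, beq_iff_eq] at hbase
  obtain ⟨⟨hlow, -⟩, hw⟩ := hbase
  have hlt : F.low < 2 ^ 24 := lt_trans hlow (by norm_num)
  have hone : LoLinear 1 ∧ FixAll C.fix 1 := ⟨fun k hk => by
    rw [act_one hk, act_one (lt_trans (lo_lt k) (by norm_num)), lo_idem (lo_lt k)], fixAll_one hfix⟩
  have hreach : ∀ l, F.acc.testBit l = true →
      ∃ g : ↥Co0, (LoLinear g ∧ FixAll C.fix g) ∧ lo (act g F.low) = l := fun l hl => by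
    obtain ⟨g, hg, hgl, -⟩ := walkC_sound (R := fun g => LoLinear g ∧ FixAll C.fix g)
      (fun _ _ a b => ⟨a.1.mul b.1, a.2.mul b.2⟩)
      (fun cols hc => by
        obtain ⟨x, hx, rfl⟩ := List.mem_map.1 hc
        have hxok := hN x hx
        simp only [fixOK, List.all_eq_true, beq_iff_eq] at hxok
        obtain ⟨g, hgl, hga⟩ := genOK_spec hxok.1
        exact ⟨g, ⟨hgl, fun k hk' => by rw [hga k (hfix k hk'), hxok.2 k hk']⟩, hga⟩)
      _ _ _ _ _ hw
      (fun k hk => ⟨1, hone, by rw [List.mem_singleton.1 hk, act_one hlt]⟩)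
      (fun b hb => by
        rw [Nat.one_shiftLeft, Nat.testBit_two_pow, decide_eq_true_eq] at hb
        exact ⟨1, hone, by rw [act_one hlt, lo_idem hlow, ← hb], rfl⟩)
      l hl
    exact ⟨g, hg, hgl⟩
  choose g hg hgl using hreach
  let A : Finset ℕ := (Finset.range 4096).filter fun l => F.acc.testBit l
  let B : Finset ℕ := (Finset.range 4096).filter fun b => (selAcc P F.orbs).testBit b
  have hA : A.card = bits F.acc := by
    rw [← ncard_bits, ← Set.ncard_coe_finset]; congr 1; ext l; simp [A]
  have hB : B.card = bits (selAcc P F.orbs) := by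
    rw [← ncard_bits, ← Set.ncard_coe_finset]; congr 1; ext l; simp [B]
  let f : {x // x ∈ A} × {x // x ∈ B} → ℕ := fun p =>
    act (g p.1.1 (Finset.mem_filter.1 p.1.2).2) (F.low + 4096 * p.2.1)
  have hlo : ∀ b < 4096, lo (F.low + 4096 * b) = F.low ∧ hi (F.low + 4096 * b) = b ∧
      F.low + 4096 * b < 2 ^ 24 := fun b hb => by
    refine ⟨?_, ?_, by omega⟩
    · rw [lo, show (4095 : ℕ) = 2 ^ 12 - 1 from rfl, Nat.and_two_pow_sub_one_eq_mod]; omega
    · rw [hi, Nat.shiftRight_eq_div_pow]; omega
  have hlow' : ∀ p, lo (f p) = p.1.1 := fun p => by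
    have hb := hlo p.2.1 (Finset.mem_range.1 (Finset.mem_filter.1 p.2.2).1)
    show lo (act _ _) = _
    rw [(hg _ _).1 _ hb.2.2, hb.1]
    exact hgl _ _
  have hinj : Function.Injective f := by
    rintro ⟨l, b⟩ ⟨l', b'⟩ he
    have hl : l = l' := Subtype.ext (by
      have := congrArg lo he
      rwa [hlow', hlow'] at this)
    subst hl
    refine Prod.ext rfl (Subtype.ext ?_)
    have hb := hlo b.1 (Finset.mem_range.1 (Finset.mem_filter.1 b.2).1)
    have hb' := hlo b'.1 (Finset.mem_range.1 (Finset.mem_filter.1 b'.2).1)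
    have := congrArg (act (g l.1 (Finset.mem_filter.1 l.2).2)⁻¹) he
    dsimp only [f] at this
    rw [act_inv_act _ hb.2.2, act_inv_act _ hb'.2.2] at this
    show b.1 = b'.1
    omega
  have himg : ((Finset.univ.image f : Finset ℕ) : Set ℕ) ⊆
      {k | k ∈ S ∧ F.acc.testBit (lo k) = true} := by
    intro k hk
    simp only [Finset.coe_image, Finset.coe_univ, Set.image_univ, Set.mem_range] at hk
    obtain ⟨p, rfl⟩ := hk
    refine ⟨?_, by rw [hlow']; exact (Finset.mem_filter.1 p.1.2).2⟩
    have hb := hlo p.2.1 (Finset.mem_range.1 (Finset.mem_filter.1 p.2.2).1)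
    obtain ⟨O, hO, hP, hOb⟩ := testBit_selAcc P _ _ (Finset.mem_filter.1 p.2.2).2
    obtain ⟨hlen, j, hj, hjl, hjh⟩ := sub_orb_reach h hF hO hOb
    obtain rfl : j = F.low + 4096 * p.2.1 :=
      class_split (hjl.trans hb.1.symm) (hjh.trans hb.2.1.symm)
    obtain ⟨-, g0, hg0, hg0'⟩ := hj
    refine hsub O.typ _ hlen hP ⟨act_lt _ _, _, ((hg p.1.1 (Finset.mem_filter.1 p.1.2).2).2.mul hg0), ?_⟩
    rw [act_mul, hg0']
  have := Set.ncard_le_ncard himg (hS.subset fun k hk => hk.1)
  rw [Set.ncard_coe_finset, Finset.card_image_of_injective _ hinj, Finset.card_univ, Fintype.card_prod,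
    Fintype.card_coe, Fintype.card_coe, hA, hB] at this
  exact this

/-- the selected orbits have at least the certified sizes -/
theorem cnt_le (h : SubValid C) (P : ℕ → Bool) {S : Set ℕ} (hS : S.Finite)
    (hsub : ∀ i k, i < C.starts.length → P i = true → k ∈ C.Reach i → k ∈ S) : C.cnt P ≤ S.ncard := by
  have hd : disjAcc (C.fibs.map fun F => F.acc) = true := by
    have := h.core
    simp only [subCore, Bool.and_eq_true] at this
    exact this.2
  have key : ∀ L : List FibreCert, (∀ F ∈ L, F ∈ C.fibs) → disjAcc (L.map fun F => F.acc) = true →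
      (L.map fun F => bits F.acc * bits (selAcc P F.orbs)).sum ≤
        {k | k ∈ S ∧ ∃ F ∈ L, F.acc.testBit (lo k) = true}.ncard := by
    intro L
    induction L with
    | nil => intro _ _; simp
    | cons F L ih =>
      intro hL hdis
      simp only [List.map_cons, disjAcc, Bool.and_eq_true, List.all_eq_true, List.mem_map, beq_iff_eq,
        forall_exists_index, and_imp, forall_apply_eq_imp_iff₂] at hdis
      have h1 := fibre_le h (hL F List.mem_cons_self) P hS hsub
      have h2 := ih (fun G hG => hL G (List.mem_cons_of_mem _ hG)) hdis.2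
      have he : {k | k ∈ S ∧ ∃ G ∈ F :: L, G.acc.testBit (lo k) = true} =
          {k | k ∈ S ∧ F.acc.testBit (lo k) = true} ∪
            {k | k ∈ S ∧ ∃ G ∈ L, G.acc.testBit (lo k) = true} := by
        ext k
        simp only [List.mem_cons, exists_eq_or_imp, Set.mem_setOf_eq, Set.mem_union]
        tauto
      rw [List.map_cons, List.sum_cons, he, Set.ncard_union_eq ?_ (hS.subset fun k hk => hk.1)
        (hS.subset fun k hk => hk.1)]
      · omega
      · rw [Set.disjoint_left]
        rintro k ⟨-, hk⟩ ⟨-, G, hG, hk'⟩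
        have := congrArg (fun n : ℕ => n.testBit (lo k)) (hdis.1 G hG)
        simp [Nat.testBit_and, hk, hk'] at this
  exact (key C.fibs (fun _ hF => hF) hd).trans (Set.ncard_le_ncard (fun k hk => hk.1) hS)

theorem typeSet_finite (t : ℕ) : (typeSet t).Finite :=
  (Set.finite_Iio (2 ^ 24)).subset fun _ hk => hk.1

theorem subValid_of_ok (h : subOK C = true) : SubValid C := by
  simp only [subOK, Bool.and_eq_true, List.all_eq_true] at h
  have hfix : ∀ k ∈ C.fix, k < 2 ^ 24 := fun k hk => by
    have hc := h.1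
    simp only [subCore, Bool.and_eq_true, List.all_eq_true, decide_eq_true_eq] at hc
    have := hc.1.1.1.1 k hk
    norm_num
    exact this
  refine ⟨h.1, fun e he => ?_⟩
  have hge := h.2 e he
  simp only [subGlueOK, fixOK, Bool.and_eq_true, decide_eq_true_eq, beq_iff_eq, List.all_eq_true] at hge
  obtain ⟨⟨⟨hlen, haut⟩, hefix⟩, hk⟩ := hge
  refine ⟨hlen, (linIso haut).aut, fun k hk' => by rw [act_lin haut (hfix k hk'), hefix k hk'], ?_⟩
  have hs : C.startK e.1 < 2 ^ 24 := by
    have hc := h.1
    simp only [subCore, Bool.and_eq_true, List.all_eq_true] at hc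
    have hmem : C.starts.getD e.1 [] ∈ C.starts := by
      rw [List.getD_eq_getElem _ _ hlen]; exact List.getElem_mem hlen
    have := hc.1.1.1.2 _ hmem
    rw [SubCert.startK, ← keyL_eq (inL_length this.1)]
    exact key_lt _
  rw [act_lin haut hs, hk]

/-- every short class is reached -/
theorem exists_reach (h : SubValid C) (htot : C.cnt (fun _ => true) = 98280) {k : ℕ}
    (hk : k ∈ typeSet 1) : ∃ i, i < C.starts.length ∧ k ∈ C.Reach i := by
  set S := {k | ∃ i, i < C.starts.length ∧ k ∈ C.Reach i} with hS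
  have hsub : S ⊆ typeSet 1 := fun k ⟨i, hi, hk⟩ => reach_typeSet h hi hk
  have h1 := cnt_le h (fun _ => true) ((typeSet_finite 1).subset hsub) fun i k hi _ hk => ⟨i, hi, hk⟩
  have he : S = typeSet 1 := by
    refine Set.eq_of_subset_of_ncard_le hsub ?_ (typeSet_finite 1)
    rw [ncard_type1]; omega
  rw [← he] at hk
  exact hk

/-- the number of short classes with an invariant property -/
theorem ncard_invariant (h : SubValid C) (P : ℕ → Bool)
    (htot : C.cnt P + C.cnt (fun i => !P i) = 98280) (Q : ℕ → Prop)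
    (hQ : ∀ g, FixAll C.fix g → ∀ k, k < 2 ^ 24 → (Q (act g k) ↔ Q k))
    (hP : ∀ i, i < C.starts.length → (P i = true ↔ Q (C.startK i))) :
    {k | k ∈ typeSet 1 ∧ Q k}.ncard = C.cnt P := by
  have hfin := typeSet_finite 1
  have hs : ∀ i, i < C.starts.length → C.startK i < 2 ^ 24 := fun i hi => by
    obtain ⟨w, -, -, hwk⟩ := subOK_start h hi
    exact hwk ▸ key_lt _
  have h1 := cnt_le h P (S := {k | k ∈ typeSet 1 ∧ Q k}) (hfin.subset fun k hk => hk.1)
    fun i k hi hPi hk => ⟨reach_typeSet h hi hk, by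
      obtain ⟨-, g, hg, rfl⟩ := hk
      exact (hQ g hg _ (hs i hi)).2 ((hP i hi).1 hPi)⟩
  have h2 := cnt_le h (fun i => !P i) (S := {k | k ∈ typeSet 1 ∧ ¬Q k}) (hfin.subset fun k hk => hk.1)
    fun i k hi hPi hk => ⟨reach_typeSet h hi hk, by
      obtain ⟨-, g, hg, rfl⟩ := hk
      intro hq
      have := (hP i hi).2 ((hQ g hg _ (hs i hi)).1 hq)
      simp [this] at hPi⟩
  have he : {k | k ∈ typeSet 1 ∧ Q k} ∪ {k | k ∈ typeSet 1 ∧ ¬Q k} = typeSet 1 := by
    ext k; simp only [Set.mem_union, Set.mem_setOf_eq]; tauto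
  have hsum := Set.ncard_union_eq (s := {k | k ∈ typeSet 1 ∧ Q k})
    (t := {k | k ∈ typeSet 1 ∧ ¬Q k}) (Set.disjoint_left.2 fun k a b => b.2 a.2)
    (hfin.subset fun k hk => hk.1) (hfin.subset fun k hk => hk.1)
  rw [he, ncard_type1] at hsum
  omega

end CfsgLib.Leech
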