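import Cfsg.Agent.Lib.Leech.Sub.Multi
import Cfsg.Agent.Lib.Leech.Sub.Pairs
import Cfsg.Agent.Lib.Leech.Sub.CertMcl
import Cfsg.Agent.Lib.Leech.Sub.CertHs
import Cfsg.Agent.Lib.Leech.Sub.CertHsPt
import Cfsg.Agent.Lib.Leech.Sub.CertMclT
import Cfsg.Agent.Lib.Leech.Sub.CertMclPt

/-!
The permutation representations of the stabilizers of pairs of vectors on short vectors.
-/

set_option autoImplicit false
set_option maxRecDepth 10000

namespace CfsgLib.Leech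

open Cfsg CfsgLib.Golay

attribute [local irreducible] dL bL key keyL coord packB linL bits cert32 cert48 certMcl certHs
  certHsPt certMclT certMclPt

/-- certificate data for the pair of norm 32 -/
def dataMcl : MultiData :=
  ⟨certMclV, certMcl, certMcl_valid, certMcl_total, by decide +kernel⟩

/-- certificate data for the pair of norm 48 -/
def dataHs : MultiData := ⟨certHsV, certHs, certHs_valid, certHs_total, by decide +kernel⟩

/-- certificate data for a point of the graph on 100 points -/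
def dataHsPt : MultiData :=
  ⟨certHsPtV, certHsPt, certHsPt_valid, certHsPt_total, by decide +kernel⟩

/-- certificate data for a point of the set of 275 points -/
def dataMclPt : MultiData :=
  ⟨certMclPtV, certMclPt, certMclPt_valid, certMclPt_total, by decide +kernel⟩

/-- certificate data for a point of the set of 2025 points -/
def dataMclT : MultiData :=
  ⟨certMclTV, certMclT, certMclT_valid, certMclT_total, by decide +kernel⟩

theorem dotInt_sub_left' (x y z : GolayPt → ℤ) : dotInt (x - y) z = dotInt x z - dotInt y z := by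
  rw [dotInt_comm, dotInt_sub_right, dotInt_comm z, dotInt_comm z]

theorem dotInt_add_left'' (x y z : GolayPt → ℤ) : dotInt (x + y) z = dotInt x z + dotInt y z := by
  rw [dotInt_comm, dotInt_add_right, dotInt_comm z, dotInt_comm z]

theorem map32 {a b v w : ↥leechLattice} (ha : sqNorm (a : GolayPt → ℤ) = 32)
    (hb : sqNorm (b : GolayPt → ℤ) = 32) (hab : dotInt (a : GolayPt → ℤ) b = -8)
    (hv : sqNorm (v : GolayPt → ℤ) = 32) (hw : sqNorm (w : GolayPt → ℤ) = 32)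
    (hvw : dotInt (v : GolayPt → ℤ) w = -8) : ∃ h : ↥Co0, h • a = v ∧ h • b = w := by
  obtain ⟨g, hg⟩ := transitive_small (t := 1) (by norm_num) ha hv
  have hd : dotInt (v : GolayPt → ℤ) (g • b : ↥leechLattice) = -8 := by rw [← hg, dotInt_smul, hab]
  obtain ⟨k, hk, hk'⟩ := trans32 hv ((sqNorm_smul g _).trans hb) hw (by norm_num) hd hvw
  exact ⟨k * g, by rw [mul_smul, hg, hk], by rw [mul_smul, hk']⟩

theorem map48 {a b v w : ↥leechLattice} (ha : sqNorm (a : GolayPt → ℤ) = 48)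
    (hb : sqNorm (b : GolayPt → ℤ) = 32) (hab : dotInt (a : GolayPt → ℤ) b = 16)
    (hv : sqNorm (v : GolayPt → ℤ) = 48) (hw : sqNorm (w : GolayPt → ℤ) = 32)
    (hvw : dotInt (v : GolayPt → ℤ) w = 16) : ∃ h : ↥Co0, h • a = v ∧ h • b = w := by
  obtain ⟨g, hg⟩ := transitive_small (t := 2) (by norm_num) ha hv
  have hd : dotInt (v : GolayPt → ℤ) (g • b : ↥leechLattice) = 16 := by rw [← hg, dotInt_smul, hab]
  obtain ⟨k, hk, hk'⟩ := trans48 hv ((sqNorm_smul g _).trans hb) hw (by norm_num) hd hvw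
  exact ⟨k * g, by rw [mul_smul, hg, hk], by rw [mul_smul, hk']⟩

theorem facts_vecL {a b : List ℤ} {n d : ℤ}
    (h : (inL a && inL b && dotL a a == n && dotL a b == d) = true) :
    sqNorm (vecL a : GolayPt → ℤ) = n ∧ dotInt (vecL a : GolayPt → ℤ) (vecL b) = d := by
  simp only [Bool.and_eq_true, beq_iff_eq] at h
  obtain ⟨⟨⟨ha, hb⟩, hn⟩, hd⟩ := h
  exact ⟨by rw [sqNorm_eq_dotInt, dotInt_vecL ha ha, hn], by rw [dotInt_vecL ha hb, hd]⟩

/-! ### The pair of norm 32 -/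

theorem exists_mcl {v w : ↥leechLattice} (hv : sqNorm (v : GolayPt → ℤ) = 32)
    (hw : sqNorm (w : GolayPt → ℤ) = 32) (hvw : dotInt (v : GolayPt → ℤ) w = -8) :
    ∃ h : ↥Co0, dataMcl.vs.map (fun u => h • u) = [v, w] := by
  obtain ⟨a, b, hab, hchk⟩ : ∃ a b, certMclV = [a, b] ∧
      (inL a && inL b && dotL a a == 32 && dotL a b == -8) = true ∧
      (inL b && inL a && dotL b b == 32 && dotL b a == -8) = true :=
    ⟨_, _, rfl, by decide +kernel, by decide +kernel⟩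
  obtain ⟨h, h1, h2⟩ := map32 (facts_vecL hchk.1).1 (facts_vecL hchk.2).1 (facts_vecL hchk.1).2 hv hw hvw
  exact ⟨h, by simp [MultiData.vs, dataMcl, hab, h1, h2]⟩

theorem uniq275 : uniqSig dataMcl [16, 8] 8 = true ∧ dataMcl.C.cnt (fun i => i == 8) = 275 := by
  decide +kernel

theorem uniq2025 : uniqSig dataMcl [0, 16] 1 = true ∧ dataMcl.C.cnt (fun i => i == 1) = 2025 := by
  decide +kernel

theorem pair275 {u v : ↥leechLattice} (hu : sqNorm (u : GolayPt → ℤ) = 48)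
    (hv : sqNorm (v : GolayPt → ℤ) = 32 ∧ sqNorm ((u : GolayPt → ℤ) - (v : GolayPt → ℤ)) = 32) :
    sqNorm ((u - v : ↥leechLattice) : GolayPt → ℤ) = 32 ∧
      dotInt (v : GolayPt → ℤ) (u - v : ↥leechLattice) = -8 := by
  obtain ⟨h1, h2⟩ := hv
  rw [AddSubgroup.coe_sub]
  refine ⟨h2, ?_⟩
  rw [sqNorm_sub, hu, h1] at h2
  rw [dotInt_sub_right, ← sqNorm_eq_dotInt, h1, dotInt_comm]
  omega

theorem set275_eq {u v : ↥leechLattice} (hu : sqNorm (u : GolayPt → ℤ) = 48) :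
    {x : ↥leechLattice | sqNorm (x : GolayPt → ℤ) = 32 ∧ sqNorm ((u : GolayPt → ℤ) - (x : GolayPt → ℤ)) = 32 ∧
      dotInt (v : GolayPt → ℤ) x = 16} = setV [v, u - v] [16, 8] := by
  ext x
  simp only [setV, sigV, List.map_cons, List.map_nil, List.cons.injEq, and_true, Set.mem_setOf_eq,
    AddSubgroup.coe_sub, dotInt_sub_left', sqNorm_sub, hu]
  constructor
  · rintro ⟨h1, h2, h3⟩; exact ⟨h1, h3, by omega⟩
  · rintro ⟨h1, h2, h3⟩; exact ⟨h1, by omega, h2⟩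

theorem mcl275 {u v : ↥leechLattice} (hu : sqNorm (u : GolayPt → ℤ) = 48)
    (hv : sqNorm (v : GolayPt → ℤ) = 32 ∧ sqNorm ((u : GolayPt → ℤ) - (v : GolayPt → ℤ)) = 32) :
    (setV [v, u - v] [16, 8]).ncard = 275 ∧ ∀ x ∈ setV [v, u - v] [16, 8],
      ∀ x' ∈ setV [v, u - v] [16, 8], ∃ g : ↥Co0, g • u = u ∧ g • v = v ∧ g • x = x' := by
  obtain ⟨hn, hd⟩ := pair275 hu hv
  obtain ⟨h, hh⟩ := exists_mcl hv.1 hn hd
  refine ⟨dataMcl.ncard_of_smul uniq275.1 uniq275.2 hh, fun x hx x' hx' => ?_⟩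
  obtain ⟨g, hg, hgx⟩ := dataMcl.trans_of_smul uniq275.1 hh hx hx'
  simp only [List.mem_cons, List.not_mem_nil, or_false, forall_eq_or_imp, forall_eq] at hg
  refine ⟨g, ?_, hg.1, hgx⟩
  have := hg.2
  rw [smul_sub', hg.1, sub_left_inj] at this
  exact this

theorem eq_of_dot32 {x y : ↥leechLattice} (hx : sqNorm (x : GolayPt → ℤ) = 32)
    (hy : sqNorm (y : GolayPt → ℤ) = 32) (h : dotInt (x : GolayPt → ℤ) y = 32) : y = x := by
  refine Subtype.ext ?_
  have h0 : sqNorm ((y : GolayPt → ℤ) - (x : GolayPt → ℤ)) = 0 := by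
    rw [sqNorm_sub, hx, hy, dotInt_comm, h]; norm_num
  funext i
  rw [sqNorm_eq_dotInt, dotInt] at h0
  have := (Finset.sum_eq_zero_iff_of_nonneg fun j _ => mul_self_nonneg _).1 h0 i (Finset.mem_univ i)
  have h1 := mul_self_eq_zero.1 this
  rw [Pi.sub_apply, sub_eq_zero] at h1
  exact h1

theorem mclPt_sig {h : ↥Co0} {v w x y : ↥leechLattice} (hh : dataMclPt.vs.map (fun u => h • u) = [v, w, x])
    (hy : y ∈ setV [v, w] [16, 8]) :
    dotInt (x : GolayPt → ℤ) y = 32 ∨ dotInt (x : GolayPt → ℤ) y = 16 ∨ dotInt (x : GolayPt → ℤ) y = 8 := by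
  have hm := dataMclPt.sig_mem_of_smul hh hy.1
  have hc := hy.2
  simp only [sigV, List.map_cons, List.map_nil, List.cons.injEq, and_true] at hm hc
  rw [hc.1, hc.2] at hm
  have key' : ∀ l ∈ (dataMclPt.C.starts.map fun r => sigL dataMclPt.V r) ++
      (dataMclPt.C.starts.map fun r => (sigL dataMclPt.V r).map fun z => -z),
      l.take 2 = [16, 8] → l.getD 2 0 ∈ ([32, 16, 8] : List ℤ) := by decide +kernel
  have := key' _ hm rfl
  simpa using this

theorem uniqMclPt : (uniqSig dataMclPt [16, 8, 8] 31 = true ∧ dataMclPt.C.cnt (fun i => i == 31) = 112) ∧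
    uniqSig dataMclPt [16, 8, 16] 22 = true ∧ dataMclPt.C.cnt (fun i => i == 22) = 162 := by
  decide +kernel

theorem exists_mclPt {v w x : ↥leechLattice} (hv : sqNorm (v : GolayPt → ℤ) = 32)
    (hw : sqNorm (w : GolayPt → ℤ) = 32) (hvw : dotInt (v : GolayPt → ℤ) w = -8)
    (hx : x ∈ setV [v, w] [16, 8]) :
    ∃ h : ↥Co0, dataMclPt.vs.map (fun u => h • u) = [v, w, x] := by
  obtain ⟨h, hh⟩ := exists_mcl hv hw hvw
  obtain ⟨a, b, c, hV, hV', hc⟩ : ∃ a b c, certMclPtV = [a, b, c] ∧ certMclV = [a, b] ∧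
      (inL a && inL b && inL c && dotL c c == 32 && dotL a c == 16 && dotL b c == 8) = true :=
    ⟨_, _, _, rfl, rfl, by decide +kernel⟩
  simp only [Bool.and_eq_true, beq_iff_eq] at hc
  obtain ⟨⟨⟨⟨⟨ha, hb⟩, hcin⟩, hcc⟩, hac⟩, hbc⟩ := hc
  simp only [MultiData.vs, dataMcl, hV', List.map_cons, List.map_nil, List.cons.injEq, and_true] at hh
  obtain ⟨hha, hhb⟩ := hh
  have hy : h • vecL c ∈ setV [v, w] [16, 8] := by
    refine ⟨by rw [sqNorm_smul, sqNorm_eq_dotInt, dotInt_vecL hcin hcin, hcc], ?_⟩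
    rw [← hha, ← hhb]
    simp [sigV, dotInt_smul, dotInt_vecL ha hcin, dotInt_vecL hb hcin, hac, hbc]
  obtain ⟨g, hg, hgx⟩ := dataMcl.trans_of_smul uniq275.1
    (h := h) (by simp [MultiData.vs, dataMcl, hV', hha, hhb]) hy hx
  simp only [List.mem_cons, List.not_mem_nil, or_false, forall_eq_or_imp, forall_eq] at hg
  refine ⟨g * h, ?_⟩
  simp [MultiData.vs, dataMclPt, hV, mul_smul, hha, hhb, hg.1, hg.2, hgx]

theorem mcl_rank3 {v w x : ↥leechLattice} (hv : sqNorm (v : GolayPt → ℤ) = 32)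
    (hw : sqNorm (w : GolayPt → ℤ) = 32) (hvw : dotInt (v : GolayPt → ℤ) w = -8)
    (hx : x ∈ setV [v, w] [16, 8]) :
    {y | y ∈ setV [v, w] [16, 8] ∧ dotInt (x : GolayPt → ℤ) y = 8}.ncard = 112 ∧
    {y | y ∈ setV [v, w] [16, 8] ∧ y ≠ x ∧ dotInt (x : GolayPt → ℤ) y = 16}.ncard = 162 ∧
    ∀ y ∈ setV [v, w] [16, 8], ∀ y' ∈ setV [v, w] [16, 8], y ≠ x → y' ≠ x →
      dotInt (x : GolayPt → ℤ) y = dotInt (x : GolayPt → ℤ) y' →
      ∃ g : ↥Co0, g • v = v ∧ g • w = w ∧ g • x = x ∧ g • y = y' := by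
  obtain ⟨h, hh⟩ := exists_mclPt hv hw hvw hx
  obtain ⟨⟨u8, n8⟩, u16, n16⟩ := uniqMclPt
  have mem : ∀ d : ℤ, ∀ y, y ∈ setV [v, w, x] [16, 8, d] ↔
      y ∈ setV [v, w] [16, 8] ∧ dotInt (x : GolayPt → ℤ) y = d := by
    intro d y; simp [setV, sigV, and_assoc]
  refine ⟨?_, ?_, fun y hy y' hy' hne hne' he => ?_⟩
  · refine (congrArg Set.ncard ?_).trans (dataMclPt.ncard_of_smul u8 n8 hh)
    ext y; simp [mem]
  · refine (congrArg Set.ncard ?_).trans (dataMclPt.ncard_of_smul u16 n16 hh)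
    ext y
    simp only [Set.mem_setOf_eq, mem]
    refine ⟨fun h => ⟨h.1, h.2.2⟩, fun h => ⟨h.1, fun e => ?_, h.2⟩⟩
    rw [e, ← sqNorm_eq_dotInt, hx.1] at h
    omega
  · rcases mclPt_sig hh hy with d | d | d
    · exact absurd (eq_of_dot32 hx.1 hy.1 d) hne
    all_goals
      obtain ⟨g, hg, hgy⟩ := dataMclPt.trans_of_smul (by first | exact u16 | exact u8) hh
        ((mem _ y).2 ⟨hy, d⟩) ((mem _ y').2 ⟨hy', he ▸ d⟩)
      simp only [List.mem_cons, List.not_mem_nil, or_false, forall_eq_or_imp, forall_eq] at hg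
      exact ⟨g, hg.1, hg.2.1, hg.2.2, hgy⟩

theorem uniqMclT : (uniqSig dataMclT [0, 16, 0] 45 = true ∧ dataMclT.C.cnt (fun i => i == 45) = 330) ∧
    (uniqSig dataMclT [0, 16, 16] 3 = true ∧ dataMclT.C.cnt (fun i => i == 3) = 462) ∧
    uniqSig dataMclT [0, 16, 8] 36 = true ∧ dataMclT.C.cnt (fun i => i == 36) = 1232 := by
  decide +kernel

theorem exists_mclT {v w x : ↥leechLattice} (hv : sqNorm (v : GolayPt → ℤ) = 32)
    (hw : sqNorm (w : GolayPt → ℤ) = 32) (hvw : dotInt (v : GolayPt → ℤ) w = -8)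
    (hx : x ∈ setV [v, w] [0, 16]) :
    ∃ h : ↥Co0, dataMclT.vs.map (fun u => h • u) = [v, w, x] := by
  obtain ⟨h, hh⟩ := exists_mcl hv hw hvw
  obtain ⟨a, b, c, hV, hV', hc⟩ : ∃ a b c, certMclTV = [a, b, c] ∧ certMclV = [a, b] ∧
      (inL a && inL b && inL c && dotL c c == 32 && dotL a c == 0 && dotL b c == 16) = true :=
    ⟨_, _, _, rfl, rfl, by decide +kernel⟩
  simp only [Bool.and_eq_true, beq_iff_eq] at hc
  obtain ⟨⟨⟨⟨⟨ha, hb⟩, hcin⟩, hcc⟩, hac⟩, hbc⟩ := hc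
  simp only [MultiData.vs, dataMcl, hV', List.map_cons, List.map_nil, List.cons.injEq, and_true] at hh
  obtain ⟨hha, hhb⟩ := hh
  have hy : h • vecL c ∈ setV [v, w] [0, 16] := by
    refine ⟨by rw [sqNorm_smul, sqNorm_eq_dotInt, dotInt_vecL hcin hcin, hcc], ?_⟩
    rw [← hha, ← hhb]
    simp [sigV, dotInt_smul, dotInt_vecL ha hcin, dotInt_vecL hb hcin, hac, hbc]
  obtain ⟨g, hg, hgx⟩ := dataMcl.trans_of_smul uniq2025.1
    (h := h) (by simp [MultiData.vs, dataMcl, hV', hha, hhb]) hy hx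
  simp only [List.mem_cons, List.not_mem_nil, or_false, forall_eq_or_imp, forall_eq] at hg
  refine ⟨g * h, ?_⟩
  simp [MultiData.vs, dataMclT, hV, mul_smul, hha, hhb, hg.1, hg.2, hgx]

theorem mcl_rank4 {v w : ↥leechLattice} (hv : sqNorm (v : GolayPt → ℤ) = 32)
    (hw : sqNorm (w : GolayPt → ℤ) = 32) (hvw : dotInt (v : GolayPt → ℤ) w = -8) :
    (setV [v, w] [0, 16]).ncard = 2025 ∧
    (∀ x ∈ setV [v, w] [0, 16], ∀ x' ∈ setV [v, w] [0, 16],
      ∃ g : ↥Co0, g • v = v ∧ g • w = w ∧ g • x = x') ∧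
    ∀ x ∈ setV [v, w] [0, 16], ∃ y₁ ∈ setV [v, w] [0, 16], ∃ y₂ ∈ setV [v, w] [0, 16],
      ∃ y₃ ∈ setV [v, w] [0, 16],
      (MulAction.orbit ↥(MulAction.stabilizer ↥Co0 v ⊓ MulAction.stabilizer ↥Co0 w ⊓
        MulAction.stabilizer ↥Co0 x) y₁).ncard = 330 ∧
      (MulAction.orbit ↥(MulAction.stabilizer ↥Co0 v ⊓ MulAction.stabilizer ↥Co0 w ⊓
        MulAction.stabilizer ↥Co0 x) y₂).ncard = 462 ∧
      (MulAction.orbit ↥(MulAction.stabilizer ↥Co0 v ⊓ MulAction.stabilizer ↥Co0 w ⊓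
        MulAction.stabilizer ↥Co0 x) y₃).ncard = 1232 := by
  obtain ⟨h, hh⟩ := exists_mcl hv hw hvw
  refine ⟨dataMcl.ncard_of_smul uniq2025.1 uniq2025.2 hh, fun x hx x' hx' => ?_, fun x hx => ?_⟩
  · obtain ⟨g, hg, hgx⟩ := dataMcl.trans_of_smul uniq2025.1 hh hx hx'
    simp only [List.mem_cons, List.not_mem_nil, or_false, forall_eq_or_imp, forall_eq] at hg
    exact ⟨g, hg.1, hg.2, hgx⟩
  obtain ⟨k, hk⟩ := exists_mclT hv hw hvw hx
  obtain ⟨⟨u1, n1⟩, ⟨u2, n2⟩, u3, n3⟩ := uniqMclT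
  have hK : ∀ g : ↥Co0, g ∈ (MulAction.stabilizer ↥Co0 v ⊓ MulAction.stabilizer ↥Co0 w ⊓
      MulAction.stabilizer ↥Co0 x) ↔ ∀ u ∈ [v, w, x], g • u = u := by
    intro g; simp [and_assoc]
  have sub : ∀ {d : ℤ} {y : ↥leechLattice}, y ∈ setV [v, w, x] [0, 16, d] → y ∈ setV [v, w] [0, 16] := by
    intro d y hy; simp [setV, sigV] at hy ⊢; exact ⟨hy.1, hy.2.1, hy.2.2.1⟩
  obtain ⟨y1, h1⟩ := dataMclT.exists_of_smul u1 hk
  obtain ⟨y2, h2⟩ := dataMclT.exists_of_smul u2 hk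
  obtain ⟨y3, h3⟩ := dataMclT.exists_of_smul u3 hk
  refine ⟨y1, sub h1, y2, sub h2, y3, sub h3, ?_, ?_, ?_⟩
  · rw [dataMclT.orbit_of_smul u1 hk hK h1]; exact dataMclT.ncard_of_smul u1 n1 hk
  · rw [dataMclT.orbit_of_smul u2 hk hK h2]; exact dataMclT.ncard_of_smul u2 n2 hk
  · rw [dataMclT.orbit_of_smul u3 hk hK h3]; exact dataMclT.ncard_of_smul u3 n3 hk

/-! ### The pair of norm 48 -/

theorem exists_hs {v s : ↥leechLattice} (hv : sqNorm (v : GolayPt → ℤ) = 48)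
    (hs : sqNorm (s : GolayPt → ℤ) = 32) (hvs : dotInt (v : GolayPt → ℤ) s = 16) :
    ∃ h : ↥Co0, dataHs.vs.map (fun u => h • u) = [v, s] := by
  obtain ⟨a, b, hab, hchk⟩ : ∃ a b, certHsV = [a, b] ∧
      (inL a && inL b && dotL a a == 48 && dotL a b == 16) = true ∧
      (inL b && inL a && dotL b b == 32 && dotL b a == 16) = true :=
    ⟨_, _, rfl, by decide +kernel, by decide +kernel⟩
  obtain ⟨h, h1, h2⟩ := map48 (facts_vecL hchk.1).1 (facts_vecL hchk.2).1 (facts_vecL hchk.1).2 hv hs hvs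
  exact ⟨h, by simp [MultiData.vs, dataHs, hab, h1, h2]⟩

theorem uniqHs : (uniqSig dataHs [24, 0] 2 = true ∧ dataHs.C.cnt (fun i => i == 2) = 100) ∧
    (uniqSig dataHs [-16, 8] 8 = true ∧ dataHs.C.cnt (fun i => i == 8) = 352) ∧
    (uniqSig dataHs [-16, -16] 7 = true ∧ dataHs.C.cnt (fun i => i == 7) = 1100) ∧
    (uniqSig dataHs [-16, 0] 12 = true ∧ dataHs.C.cnt (fun i => i == 12) = 4125) ∧
    uniqSig dataHs [-16, -8] 16 = true ∧ dataHs.C.cnt (fun i => i == 16) = 5600 := by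
  decide +kernel

theorem set100_eq (v w : ↥leechLattice) :
    {x : ↥leechLattice | sqNorm (x : GolayPt → ℤ) = 32 ∧ dotInt (v : GolayPt → ℤ) x = 24 ∧
      dotInt (w : GolayPt → ℤ) x = -24} = setV [v, v + w] [24, 0] := by
  ext x
  simp only [setV, sigV, List.map_cons, List.map_nil, List.cons.injEq, and_true, Set.mem_setOf_eq,
    AddSubgroup.coe_add, dotInt_add_left'']
  constructor <;> rintro ⟨h1, h2, h3⟩ <;> exact ⟨h1, h2, by omega⟩

theorem hs100 {v w : ↥leechLattice} (hv : sqNorm (v : GolayPt → ℤ) = 48)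
    (hw : sqNorm (w : GolayPt → ℤ) = 48) (hvw : dotInt (v : GolayPt → ℤ) w = -32) :
    (setV [v, v + w] [24, 0]).ncard = 100 ∧ ∀ x ∈ setV [v, v + w] [24, 0],
      ∀ x' ∈ setV [v, v + w] [24, 0], ∃ g : ↥Co0, g • v = v ∧ g • w = w ∧ g • x = x' := by
  obtain ⟨hn, hd, -⟩ := hs_sum hv hw hvw
  obtain ⟨h, hh⟩ := exists_hs hv hn hd
  refine ⟨dataHs.ncard_of_smul uniqHs.1.1 uniqHs.1.2 hh, fun x hx x' hx' => ?_⟩
  obtain ⟨g, hg, hgx⟩ := dataHs.trans_of_smul uniqHs.1.1 hh hx hx'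
  simp only [List.mem_cons, List.not_mem_nil, or_false, forall_eq_or_imp, forall_eq] at hg
  refine ⟨g, hg.1, ?_, hgx⟩
  have := hg.2
  rw [smul_add', hg.1] at this
  exact add_left_cancel this

theorem uniqHsPt : (uniqSig dataHsPt [24, 0, 8] 34 = true ∧ dataHsPt.C.cnt (fun i => i == 34) = 22) ∧
    uniqSig dataHsPt [24, 0, 16] 16 = true ∧ dataHsPt.C.cnt (fun i => i == 16) = 77 := by
  decide +kernel

theorem exists_hsPt {v s x : ↥leechLattice} (hv : sqNorm (v : GolayPt → ℤ) = 48)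
    (hs : sqNorm (s : GolayPt → ℤ) = 32) (hvs : dotInt (v : GolayPt → ℤ) s = 16)
    (hx : x ∈ setV [v, s] [24, 0]) :
    ∃ h : ↥Co0, dataHsPt.vs.map (fun u => h • u) = [v, s, x] := by
  obtain ⟨h, hh⟩ := exists_hs hv hs hvs
  obtain ⟨a, b, c, hV, hV', hc⟩ : ∃ a b c, certHsPtV = [a, b, c] ∧ certHsV = [a, b] ∧
      (inL a && inL b && inL c && dotL c c == 32 && dotL a c == 24 && dotL b c == 0) = true :=
    ⟨_, _, _, rfl, rfl, by decide +kernel⟩
  simp only [Bool.and_eq_true, beq_iff_eq] at hc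
  obtain ⟨⟨⟨⟨⟨ha, hb⟩, hcin⟩, hcc⟩, hac⟩, hbc⟩ := hc
  simp only [MultiData.vs, dataHs, hV', List.map_cons, List.map_nil, List.cons.injEq, and_true] at hh
  obtain ⟨hha, hhb⟩ := hh
  have hy : h • vecL c ∈ setV [v, s] [24, 0] := by
    refine ⟨by rw [sqNorm_smul, sqNorm_eq_dotInt, dotInt_vecL hcin hcin, hcc], ?_⟩
    rw [← hha, ← hhb]
    simp [sigV, dotInt_smul, dotInt_vecL ha hcin, dotInt_vecL hb hcin, hac, hbc]
  obtain ⟨g, hg, hgx⟩ := dataHs.trans_of_smul uniqHs.1.1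
    (h := h) (by simp [MultiData.vs, dataHs, hV', hha, hhb]) hy hx
  simp only [List.mem_cons, List.not_mem_nil, or_false, forall_eq_or_imp, forall_eq] at hg
  refine ⟨g * h, ?_⟩
  simp [MultiData.vs, dataHsPt, hV, mul_smul, hha, hhb, hg.1, hg.2, hgx]

theorem hs_rank3 {v w x : ↥leechLattice} (hv : sqNorm (v : GolayPt → ℤ) = 48)
    (hw : sqNorm (w : GolayPt → ℤ) = 48) (hvw : dotInt (v : GolayPt → ℤ) w = -32)
    (hx : x ∈ setV [v, v + w] [24, 0]) :
    {y | y ∈ setV [v, v + w] [24, 0] ∧ dotInt (x : GolayPt → ℤ) y = 8}.ncard = 22 ∧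
    {y | y ∈ setV [v, v + w] [24, 0] ∧ y ≠ x ∧ dotInt (x : GolayPt → ℤ) y ≠ 8}.ncard = 77 ∧
    ∀ y ∈ setV [v, v + w] [24, 0], ∀ y' ∈ setV [v, v + w] [24, 0], y ≠ x → y' ≠ x →
      (dotInt (x : GolayPt → ℤ) y = 8 ↔ dotInt (x : GolayPt → ℤ) y' = 8) →
      ∃ g : ↥Co0, g • v = v ∧ g • w = w ∧ g • x = x ∧ g • y = y' := by
  obtain ⟨hn, hd, -⟩ := hs_sum hv hw hvw
  obtain ⟨h, hh⟩ := exists_hsPt hv hn hd hx
  obtain ⟨⟨u8, n8⟩, u16, n16⟩ := uniqHsPt
  have hsig : ∀ y ∈ setV [v, v + w] [24, 0], y ≠ x → dotInt (x : GolayPt → ℤ) y ≠ 8 →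
      dotInt (x : GolayPt → ℤ) y = 16 := by
    intro y hy hne h8
    have hm := dataHsPt.sig_mem_of_smul hh hy.1
    have hc := hy.2
    simp only [sigV, List.map_cons, List.map_nil, List.cons.injEq, and_true] at hm hc
    rw [hc.1, hc.2] at hm
    have key' : ∀ l ∈ (dataHsPt.C.starts.map fun r => sigL dataHsPt.V r) ++
        (dataHsPt.C.starts.map fun r => (sigL dataHsPt.V r).map fun z => -z),
        l.take 2 = [24, 0] → l.getD 2 0 ∈ ([32, 16, 8] : List ℤ) := by decide +kernel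
    have := key' _ hm rfl
    simp only [List.getD_cons_succ, List.getD_cons_zero, List.mem_cons, List.not_mem_nil, or_false] at this
    rcases this with d | d | d
    · exact absurd (eq_of_dot32 hx.1 hy.1 d) hne
    · exact d
    · exact absurd d h8
  have mem : ∀ d : ℤ, ∀ y, y ∈ setV [v, v + w, x] [24, 0, d] ↔
      y ∈ setV [v, v + w] [24, 0] ∧ dotInt (x : GolayPt → ℤ) y = d := by
    intro d y; simp [setV, sigV, and_assoc]
  refine ⟨?_, ?_, fun y hy y' hy' hne hne' he => ?_⟩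
  · refine (congrArg Set.ncard ?_).trans (dataHsPt.ncard_of_smul u8 n8 hh)
    ext y; simp [mem]
  · refine (congrArg Set.ncard ?_).trans (dataHsPt.ncard_of_smul u16 n16 hh)
    ext y
    simp only [Set.mem_setOf_eq, mem]
    refine ⟨fun h => ⟨h.1, hsig y h.1 h.2.1 h.2.2⟩, fun h => ⟨h.1, fun e => ?_, ?_⟩⟩
    · rw [e, ← sqNorm_eq_dotInt, hx.1] at h
      omega
    · rw [h.2]; norm_num
  · have hfix : ∀ {d : ℤ} {i : ℕ}, uniqSig dataHsPt [24, 0, d] i = true →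
        dotInt (x : GolayPt → ℤ) y = d → dotInt (x : GolayPt → ℤ) y' = d →
        ∃ g : ↥Co0, g • v = v ∧ g • w = w ∧ g • x = x ∧ g • y = y' := by
      intro d i hu d1 d2
      obtain ⟨g, hg, hgy⟩ := dataHsPt.trans_of_smul hu hh ((mem _ y).2 ⟨hy, d1⟩) ((mem _ y').2 ⟨hy', d2⟩)
      simp only [List.mem_cons, List.not_mem_nil, or_false, forall_eq_or_imp, forall_eq] at hg
      refine ⟨g, hg.1, ?_, hg.2.2, hgy⟩
      have := hg.2.1
      rw [smul_add', hg.1] at this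
      exact add_left_cancel this
    by_cases d : dotInt (x : GolayPt → ℤ) y = 8
    · exact hfix u8 d (he.1 d)
    · exact hfix u16 (hsig y hy hne d) (hsig y' hy' hne' fun e => d (he.2 e))

theorem co3_rank5 {u x : ↥leechLattice} (hu : sqNorm (u : GolayPt → ℤ) = 48)
    (hx : sqNorm (x : GolayPt → ℤ) = 32 ∧ dotInt (u : GolayPt → ℤ) x = -16) :
    let S := {x : ↥leechLattice | sqNorm (x : GolayPt → ℤ) = 32 ∧ dotInt (u : GolayPt → ℤ) x = -16}
    let K := MulAction.stabilizer ↥Co0 u ⊓ MulAction.stabilizer ↥Co0 x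
    ∃ y₁ ∈ S, ∃ y₂ ∈ S, ∃ y₃ ∈ S, ∃ y₄ ∈ S, (MulAction.orbit K y₁).ncard = 352 ∧
      (MulAction.orbit K y₂).ncard = 1100 ∧ (MulAction.orbit K y₃).ncard = 4125 ∧
      (MulAction.orbit K y₄).ncard = 5600 ∧
      S = {x} ∪ MulAction.orbit K y₁ ∪ MulAction.orbit K y₂ ∪ MulAction.orbit K y₃ ∪
        MulAction.orbit K y₄ := by
  intro S K
  obtain ⟨h, hh⟩ := exists_hs (s := -x) hu (by rw [AddSubgroup.coe_neg, sqNorm_neg, hx.1])
    (by rw [AddSubgroup.coe_neg, dotInt_neg_right, hx.2]; norm_num)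
  obtain ⟨-, ⟨u1, n1⟩, ⟨u2, n2⟩, ⟨u3, n3⟩, u4, n4⟩ := uniqHs
  have hK : ∀ g : ↥Co0, g ∈ K ↔ ∀ z ∈ [u, -x], g • z = z := by
    intro g; simp [K, smul_neg']
  have sub : ∀ {d : ℤ} {y : ↥leechLattice}, y ∈ setV [u, -x] [-16, d] → y ∈ S := by
    intro d y hy; simp [setV, sigV] at hy; exact ⟨hy.1, hy.2.1⟩
  obtain ⟨y1, h1⟩ := dataHs.exists_of_smul u1 hh
  obtain ⟨y2, h2⟩ := dataHs.exists_of_smul u2 hh
  obtain ⟨y3, h3⟩ := dataHs.exists_of_smul u3 hh
  obtain ⟨y4, h4⟩ := dataHs.exists_of_smul u4 hh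
  refine ⟨y1, sub h1, y2, sub h2, y3, sub h3, y4, sub h4, ?_⟩
  rw [dataHs.orbit_of_smul u1 hh hK h1, dataHs.orbit_of_smul u2 hh hK h2,
    dataHs.orbit_of_smul u3 hh hK h3, dataHs.orbit_of_smul u4 hh hK h4]
  refine ⟨dataHs.ncard_of_smul u1 n1 hh, dataHs.ncard_of_smul u2 n2 hh,
    dataHs.ncard_of_smul u3 n3 hh, dataHs.ncard_of_smul u4 n4 hh, ?_⟩
  ext y
  simp only [Set.mem_union, Set.mem_singleton_iff]
  constructor
  · intro hy
    have hm := dataHs.sig_mem_of_smul hh hy.1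
    simp only [sigV, List.map_cons, List.map_nil, hy.2] at hm
    have key' : ∀ l ∈ (dataHs.C.starts.map fun r => sigL dataHs.V r) ++
        (dataHs.C.starts.map fun r => (sigL dataHs.V r).map fun z => -z),
        l.take 1 = [-16] → l.getD 1 0 ∈ ([-32, 8, -16, 0, -8] : List ℤ) := by decide +kernel
    have := key' _ hm rfl
    simp only [List.getD_cons_succ, List.getD_cons_zero, List.mem_cons, List.not_mem_nil, or_false] at this
    have put : ∀ d : ℤ, dotInt ((-x : ↥leechLattice) : GolayPt → ℤ) y = d → y ∈ setV [u, -x] [-16, d] :=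
      fun d hd => ⟨hy.1, by simpa [sigV, hy.2] using hd⟩
    rcases this with d | d | d | d | d
    · left; left; left; left
      refine eq_of_dot32 hx.1 hy.1 ?_
      rw [AddSubgroup.coe_neg, dotInt_neg_left] at d
      omega
    · left; left; left; right; exact put _ d
    · left; left; right; exact put _ d
    · left; right; exact put _ d
    · right; exact put _ d
  · rintro ((((rfl | hy) | hy) | hy) | hy)
    · exact hx
    all_goals exact sub hy

end CfsgLib.Leech
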