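import Cfsg.Agent.Lib.Leech.Sub.HsInvolution

/-!
The involution acts without fixed points on the 100 vectors.
-/

set_option autoImplicit false
set_option maxRecDepth 10000

namespace CfsgLib.Leech

open Cfsg CfsgLib.Golay

attribute [local irreducible] dL bL key keyL coord packB linL bits cert32 cert48 certMcl certHs
  certHsPt certMclT certMclPt invW invCols hundred

theorem eq_one_of_fix_eights {g : ↥Co0} (h : ∀ p, g • eightL p = eightL p) : g = 1 := by
  refine aut_ext fun v => ?_
  rw [one_smul]
  refine Subtype.ext (funext fun p => ?_)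
  have := dotInt_smul g v (eightL p)
  rw [h p, eightL, dotInt_eight, dotInt_eight] at this
  omega

theorem eight_pair {i : ℕ} (hi : i < 23) {y y' : ↥leechLattice}
    (hy : (y : GolayPt → ℤ) = vec (((List.replicate 24 (0 : ℤ)).set i 4).set 23 4))
    (hy' : (y' : GolayPt → ℤ) = vec (((List.replicate 24 (0 : ℤ)).set i 4).set 23 (-4))) :
    y + y' = eightL (pt i) ∧ y - y' = eightL none := by
  have key' : ∀ i < 23, ∀ j < 24,
      (((List.replicate 24 (0 : ℤ)).set i 4).set 23 4).getD j 0 +
        (((List.replicate 24 (0 : ℤ)).set i 4).set 23 (-4)).getD j 0 = (if j = i then 8 else 0) ∧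
      (((List.replicate 24 (0 : ℤ)).set i 4).set 23 4).getD j 0 -
        (((List.replicate 24 (0 : ℤ)).set i 4).set 23 (-4)).getD j 0 = (if j = 23 then 8 else 0) := by
    decide +kernel
  constructor <;> refine Subtype.ext (funext fun p => ?_)
  · rw [AddSubgroup.coe_add, Pi.add_apply, hy, hy']
    show _ = eight (pt i) p
    rw [eight, Pi.single_apply]
    simp only [vec, (key' i hi (idx p) (idx_lt p)).1]
    have : idx p = i ↔ p = pt i := by
      rw [← idxEquiv.injective.eq_iff]
      constructor
      · intro e; exact Fin.ext (by show idx p = idx (pt i); rw [idx_pt i (by omega), e])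
      · intro e
        have := congrArg Fin.val e
        exact (show idx p = idx (pt i) from this).trans (idx_pt i (by omega))
    split_ifs <;> simp_all
  · rw [AddSubgroup.coe_sub, Pi.sub_apply, hy, hy']
    show _ = eight none p
    rw [eight, Pi.single_apply]
    simp only [vec, (key' i hi (idx p) (idx_lt p)).2]
    have : idx p = 23 ↔ p = none := by
      rw [← idxEquiv.injective.eq_iff]
      constructor
      · intro e; exact Fin.ext (show idx p = idx none from e.trans (by rfl))
      · intro e
        exact (show idx p = idx none from congrArg Fin.val e).trans (by rfl)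
    split_ifs <;> simp_all

theorem exists_fpf0 : ∃ g : ↥Co0, (∀ u ∈ dataHs.vs, g • u = u) ∧ orderOf g = 2 ∧
    ∀ x ∈ setV dataHs.vs [24, 0], g • x ≠ x := by
  obtain ⟨haut, hcols, hfix, hpair⟩ := inv_checks
  rw [beq_iff_eq] at hcols
  simp only [fixOK, List.all_eq_true, beq_iff_eq] at hfix
  have hfl : ∀ k ∈ dataHs.C.fix, k < 2 ^ 24 := subOK_fix dataHs.valid
  have hga : ∀ k, k < 2 ^ 24 → act (linIso haut).aut k = comb invCols k := fun k hk => by
    rw [act_lin haut hk, hcols]
  obtain ⟨g, hg, hgpm⟩ := dataHs.exists_fix (g := (linIso haut).aut)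
    fun k hk => by rw [hga k (hfl k hk), hfix k hk]
  have hkey : ∀ w : ↥leechLattice, key ((g • w : ↥leechLattice) : GolayPt → ℤ) =
      comb invCols (key (w : GolayPt → ℤ)) := fun w => by
    rw [← hga _ (key_lt _), act_key]
    rcases hgpm w with e | e <;> rw [e]
    rw [AddSubgroup.coe_neg, key_neg (_ : ↥leechLattice).2]
  have hV : certHsV.headI ∈ dataHs.V := by
    show certHsV.headI ∈ certHsV
    decide +kernel
  have hhead : g • vecL certHsV.headI = vecL certHsV.headI := hg _ (List.mem_map_of_mem hV)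
  simp only [pairChk, List.all_eq_true, List.mem_range, Bool.and_eq_true, beq_iff_eq, bne_iff_ne] at hpair
  have hy : ∀ i < 23, ∀ e ∈ [(4 : ℤ), -4],
      inL (((List.replicate 24 (0 : ℤ)).set i 4).set 23 e) = true ∧
      (g * g) • vecL (((List.replicate 24 (0 : ℤ)).set i 4).set 23 e) =
        vecL (((List.replicate 24 (0 : ℤ)).set i 4).set 23 e) := by
    intro i hi e he
    obtain ⟨⟨⟨hin, hnorm⟩, hdot⟩, hsq⟩ := hpair i hi e he
    refine ⟨hin, ?_⟩
    set y := vecL (((List.replicate 24 (0 : ℤ)).set i 4).set 23 e) with hydef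
    have hn : sqNorm (y : GolayPt → ℤ) = 32 := by
      rw [sqNorm_eq_dotInt, hydef, dotInt_vecL hin hin, hnorm]
    have hk : key (y : GolayPt → ℤ) = key (((g * g) • y : ↥leechLattice) : GolayPt → ℤ) := by
      rw [mul_smul, hkey, hkey, hydef, coe_vecL hin, keyL_eq (inL_length hin), hsq]
    rcases eq_or_neg_of_key (by omega) (by rw [sqNorm_smul]; omega) hk with e' | e'
    · exact e'
    · exfalso
      have := dotInt_smul (g * g) (vecL certHsV.headI) y
      rw [mul_smul, hhead, hhead, e', AddSubgroup.coe_neg, dotInt_neg_right, hydef,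
        dotInt_vecL (dataHs.prop hV).1 hin] at this
      omega
  have hsq : g * g = 1 := by
    have h8 : ∀ i < 23, (g * g) • eightL (pt i) = eightL (pt i) ∧ (g * g) • eightL none = eightL none := by
      intro i hi
      obtain ⟨a1, a2⟩ := hy i hi 4 (by simp)
      obtain ⟨b1, b2⟩ := hy i hi (-4) (by simp)
      obtain ⟨s1, s2⟩ := eight_pair hi (coe_vecL a1) (coe_vecL b1)
      constructor
      · rw [← s1, smul_add', a2, b2]
      · rw [← s2, smul_sub', a2, b2]
    refine eq_one_of_fix_eights fun p => ?_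
    cases p with
    | none => exact (h8 0 (by norm_num)).2
    | some a =>
      have hlt : a.val < 23 := ZMod.val_lt a
      have := (h8 a.val hlt).1
      rwa [pt, if_neg (by omega), ZMod.natCast_zmod_val] at this
  have hchk := hundred_checks
  simp only [Bool.and_eq_true, List.all_eq_true, decide_eq_true_eq, beq_iff_eq, bne_iff_ne] at hchk
  obtain ⟨⟨hall, hnodup⟩, hlen⟩ := hchk
  have hsub : ∀ e ∈ hundred, vecL e.2 ∈ setV dataHs.vs [24, 0] ∧ g • vecL e.2 ≠ vecL e.2 ∧
      key (vecL e.2 : GolayPt → ℤ) = e.1 := by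
    intro e he
    obtain ⟨⟨⟨⟨hin, hn⟩, hk⟩, hs⟩, hmv⟩ := hall e he
    have hk' : key (vecL e.2 : GolayPt → ℤ) = e.1 := by rw [coe_vecL hin, keyL_eq (inL_length hin), hk]
    refine ⟨⟨by rw [sqNorm_eq_dotInt, dotInt_vecL hin hin, hn], by rw [dataHs.sigV_vecL hin, hs]⟩, ?_, hk'⟩
    intro heq
    have := hkey (vecL e.2)
    rw [heq, hk'] at this
    exact hmv this.symm
  have hset : ∀ x ∈ setV dataHs.vs [24, 0], ∃ e ∈ hundred, vecL e.2 = x := by
    classical
    set L := (hundred.map fun e => vecL e.2) with hL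
    have hnd : L.Nodup := by
      refine List.Nodup.of_map (fun w : ↥leechLattice => key (w : GolayPt → ℤ)) ?_
      rw [hL, List.map_map]
      convert hnodup using 1
      exact List.map_congr_left fun e he => (hsub e he).2.2
    have hfin : (setV dataHs.vs [24, 0]).Finite := (finite_shell 32).subset fun x hx => hx.1
    have : (L.toFinset : Set ↥leechLattice) = setV dataHs.vs [24, 0] := by
      refine Set.eq_of_subset_of_ncard_le ?_ ?_ hfin
      · intro x hx
        simp only [List.coe_toFinset, Set.mem_setOf_eq, hL, List.mem_map] at hx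
        obtain ⟨e, he, rfl⟩ := hx
        exact (hsub e he).1
      · rw [dataHs.ncard_setV uniqHs.1.1, uniqHs.1.2, Set.ncard_coe_finset,
          List.toFinset_card_of_nodup hnd, hL, List.length_map, hlen]
    intro x hx
    rw [← this] at hx
    simp only [List.coe_toFinset, Set.mem_setOf_eq, hL, List.mem_map] at hx
    exact hx
  have hmove : ∀ x ∈ setV dataHs.vs [24, 0], g • x ≠ x := fun x hx => by
    obtain ⟨e, he, rfl⟩ := hset x hx
    exact (hsub e he).2.1
  refine ⟨g, hg, ?_, hmove⟩
  haveI : Fact (Nat.Prime 2) := ⟨Nat.prime_two⟩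
  refine orderOf_eq_prime (by rw [pow_two, hsq]) fun h1 => ?_
  obtain ⟨x, hx⟩ := dataHs.exists_of_smul uniqHs.1.1 (h := (1 : ↥Co0)) (us := dataHs.vs) (by simp)
  exact hmove x hx (by rw [h1, one_smul])

theorem hs_fpf {v w : ↥leechLattice} (hv : sqNorm (v : GolayPt → ℤ) = 48)
    (hw : sqNorm (w : GolayPt → ℤ) = 48) (hvw : dotInt (v : GolayPt → ℤ) w = -32) :
    ∃ g : ↥Co0, g • v = v ∧ g • w = w ∧ orderOf g = 2 ∧
      ∀ x ∈ setV [v, v + w] [24, 0], g • x ≠ x := by
  obtain ⟨hn, hd, -⟩ := hs_sum hv hw hvw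
  obtain ⟨h, hh⟩ := exists_hs hv hn hd
  obtain ⟨g, hg, hord, hmv⟩ := exists_fpf0
  have hfix : ∀ u ∈ [v, v + w], (h * g * h⁻¹) • u = u := by
    rw [← hh]
    intro u hu
    obtain ⟨a, ha, rfl⟩ := List.mem_map.1 hu
    rw [mul_smul, mul_smul, inv_smul_smul, hg a ha]
  simp only [List.mem_cons, List.not_mem_nil, or_false, forall_eq_or_imp, forall_eq] at hfix
  refine ⟨h * g * h⁻¹, hfix.1, ?_, ?_, fun x hx => ?_⟩
  · have := hfix.2
    rw [smul_add', hfix.1] at this
    exact add_left_cancel this
  · rw [← hord]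
    exact orderOf_injective (MulAut.conj h).toMonoidHom (MulEquiv.injective _) g
  · rw [← hh, setV_smul] at hx
    obtain ⟨y, hy, rfl⟩ := hx
    simp only [mul_smul, inv_smul_smul]
    exact fun e => hmv y hy (MulAction.injective h e)

end CfsgLib.Leech
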