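import Cfsg.Agent.Lib.Leech.Sub.Census
import Cfsg.Agent.Lib.Leech.Sub.Pack

/-!
Short vectors with given scalar products with several fixed vectors.
-/

set_option autoImplicit false
set_option maxRecDepth 10000

namespace CfsgLib.Leech

open Cfsg CfsgLib.Golay

attribute [local irreducible] dL bL key keyL coord packB linL bits

/-- the lattice vector of a coordinate list -/
def vecL (l : List ℤ) : ↥leechLattice := if h : inL l = true then ⟨vec l, vec_mem h⟩ else 0

theorem coe_vecL {l : List ℤ} (h : inL l = true) : (vecL l : GolayPt → ℤ) = vec l := by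
  rw [vecL, dif_pos h]

/-- scalar products with given vectors -/
def sigV (us : List ↥leechLattice) (w : ↥leechLattice) : List ℤ :=
  us.map fun (u : ↥leechLattice) => dotInt (u : GolayPt → ℤ) w

/-- short vectors with given scalar products -/
def setV (us : List ↥leechLattice) (c : List ℤ) : Set ↥leechLattice :=
  {x | sqNorm (x : GolayPt → ℤ) = 32 ∧ sigV us x = c}

/-- scalar products of coordinate lists -/
def sigL (V : List (List ℤ)) (r : List ℤ) : List ℤ := V.map fun l => dotL l r

theorem sigV_neg (us : List ↥leechLattice) (w : ↥leechLattice) :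
    sigV us (-w) = (sigV us w).map fun z => -z := by
  simp only [sigV, List.map_map]
  exact List.map_congr_left fun u _ => by
    simp [Function.comp, AddSubgroup.coe_neg, dotInt_neg_right]

theorem sigV_smul (g : ↥Co0) (us : List ↥leechLattice) (w : ↥leechLattice) :
    sigV (us.map fun u => g • u) (g • w) = sigV us w := by
  simp only [sigV, List.map_map]
  exact List.map_congr_left fun u _ => dotInt_smul g u w

theorem sigV_fix {g : ↥Co0} {us : List ↥leechLattice} (h : ∀ u ∈ us, g • u = u) (w : ↥leechLattice) :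
    sigV us (g • w) = sigV us w := by
  refine List.map_congr_left fun u hu => ?_
  conv_rhs => rw [← dotInt_smul g, h u hu]

/-- checks that a certificate belongs to given vectors -/
def multiOK (V : List (List ℤ)) (C : SubCert) : Bool :=
  C.fix == V.map keyL && V.all (fun l => inL l && decide (dotL l l < 64) &&
    (dotL V.headI l != 0 || V.any fun m => dotL V.headI m != 0 && dotL m l != 0))

/-- a certificate with its vectors -/
structure MultiData where
  /-- the fixed vectors -/
  V : List (List ℤ)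
  /-- the certificate -/
  C : SubCert
  valid : SubValid C
  total : C.cnt (fun _ => true) = 98280
  ok : multiOK V C = true

/-- the test that one representative has scalar products `c` up to sign, and no other -/
def uniqSig (D : MultiData) (c : List ℤ) (i0 : ℕ) : Bool :=
  decide (i0 < D.C.starts.length) && (sigL D.V (D.C.starts.getD i0 []) == c ||
      sigL D.V (D.C.starts.getD i0 []) == c.map fun z => -z) &&
    c != (c.map fun z => -z) &&
    (List.range D.C.starts.length).all (fun i => i == i0 ||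
      (sigL D.V (D.C.starts.getD i []) != c && sigL D.V (D.C.starts.getD i []) != c.map fun z => -z)) &&
    D.C.cnt (fun i => i == i0) + D.C.cnt (fun i => !(i == i0)) == 98280

variable (D : MultiData)

/-- the fixed vectors in the lattice -/
def MultiData.vs : List ↥leechLattice := D.V.map vecL

theorem MultiData.prop {l : List ℤ} (hl : l ∈ D.V) :
    inL l = true ∧ dotL l l < 64 ∧
      (dotL D.V.headI l ≠ 0 ∨ ∃ m ∈ D.V, dotL D.V.headI m ≠ 0 ∧ dotL m l ≠ 0) := by
  have h := D.ok
  simp only [multiOK, Bool.and_eq_true, Bool.or_eq_true, List.all_eq_true, List.any_eq_true,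
    decide_eq_true_eq, bne_iff_ne] at h
  exact ⟨(h.2 l hl).1.1, (h.2 l hl).1.2, (h.2 l hl).2⟩

theorem dotInt_vecL {a b : List ℤ} (ha : inL a = true) (hb : inL b = true) :
    dotInt (vecL a : GolayPt → ℤ) (vecL b) = dotL a b := by
  rw [coe_vecL ha, coe_vecL hb, dotInt_vec (inL_length ha) (inL_length hb)]

theorem MultiData.key_mem {l : List ℤ} (hl : l ∈ D.V) :
    key (vecL l : GolayPt → ℤ) ∈ D.C.fix := by
  have h := D.ok
  simp only [multiOK, Bool.and_eq_true, beq_iff_eq] at h
  rw [h.1, coe_vecL (D.prop hl).1, keyL_eq (inL_length (D.prop hl).1)]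
  exact List.mem_map_of_mem hl

theorem MultiData.exists_fix {g : ↥Co0} (hg : FixAll D.C.fix g) :
    ∃ k : ↥Co0, (∀ u ∈ D.vs, k • u = u) ∧ ∀ w : ↥leechLattice, k • w = g • w ∨ k • w = -(g • w) := by
  have hpm : ∀ l ∈ D.V, g • vecL l = vecL l ∨ g • vecL l = -vecL l := fun l hl => by
    obtain ⟨hin, hlt, -⟩ := D.prop hl
    have hn : sqNorm (vecL l : GolayPt → ℤ) < 64 := by
      rw [sqNorm_eq_dotInt, dotInt_vecL hin hin]; exact hlt
    have h := hg _ (D.key_mem hl)
    rw [act_key] at h
    exact eq_or_neg_of_key hn (by rw [sqNorm_smul]; exact hn.le) h.symm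
  by_cases hV : D.V = []
  · exact ⟨g, by simp [MultiData.vs, hV], fun w => Or.inl rfl⟩
  have hhead : D.V.headI ∈ D.V := by
    cases hd : D.V with
    | nil => exact absurd hd hV
    | cons a as => simp
  have main : ∀ k : ↥Co0, k • vecL D.V.headI = vecL D.V.headI →
      (∀ l ∈ D.V, k • vecL l = vecL l ∨ k • vecL l = -vecL l) → ∀ u ∈ D.vs, k • u = u := by
    intro k hk hk'
    have step : ∀ m l, m ∈ D.V → l ∈ D.V → k • vecL m = vecL m → dotL m l ≠ 0 →
        k • vecL l = vecL l := by
      intro m l hm hl hkm hne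
      rcases hk' l hl with e | e
      · exact e
      · exfalso
        have := dotInt_smul k (vecL m) (vecL l)
        rw [hkm, e, AddSubgroup.coe_neg, dotInt_neg_right,
          dotInt_vecL (D.prop hm).1 (D.prop hl).1] at this
        omega
    intro u hu
    obtain ⟨l, hl, rfl⟩ := List.mem_map.1 hu
    rcases (D.prop hl).2.2 with h | ⟨m, hm, h1, h2⟩
    · exact step _ _ hhead hl hk h
    · exact step _ _ hm hl (step _ _ hhead hm hk h1) h2
  rcases hpm _ hhead with e | e
  · exact ⟨g, main g e hpm, fun w => Or.inl rfl⟩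
  · refine ⟨negAut * g, main _ (by rw [mul_smul, e, negAut_smul, neg_neg]) ?_,
      fun w => Or.inr (by rw [mul_smul, negAut_smul])⟩
    intro l hl
    rw [mul_smul, negAut_smul]
    rcases hpm l hl with e' | e'
    · exact Or.inr (by rw [e'])
    · exact Or.inl (by rw [e', neg_neg])

theorem MultiData.sigV_vecL {r : List ℤ} (hr : inL r = true) : sigV D.vs (vecL r) = sigL D.V r := by
  simp only [sigV, sigL, MultiData.vs, List.map_map]
  exact List.map_congr_left fun l hl => dotInt_vecL (D.prop hl).1 hr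

theorem MultiData.start_in {i : ℕ} (hi : i < D.C.starts.length) :
    inL (D.C.starts.getD i []) = true := by
  have hc := D.valid.core
  simp only [subCore, Bool.and_eq_true, List.all_eq_true] at hc
  exact (hc.1.1.1.2 _ (by rw [List.getD_eq_getElem _ _ hi]; exact List.getElem_mem hi)).1

/-- every short vector is a signed image of a representative -/
theorem MultiData.exists_rep {w : ↥leechLattice} (hw : sqNorm (w : GolayPt → ℤ) = 32) :
    ∃ i, i < D.C.starts.length ∧ ∃ k : ↥Co0, (∀ u ∈ D.vs, k • u = u) ∧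
      (k • vecL (D.C.starts.getD i []) = w ∨ k • vecL (D.C.starts.getD i []) = -w) := by
  obtain ⟨i, hi, -, g, hg, hgk⟩ := exists_reach D.valid D.total
    (k := key (w : GolayPt → ℤ)) ⟨key_lt _, typ_of_norm (t := 1) (by norm_num) hw⟩
  obtain ⟨r, hr, hrv, hrk⟩ := subOK_start D.valid hi
  obtain rfl : r = vecL (D.C.starts.getD i []) := Subtype.ext (by rw [hrv, coe_vecL (D.start_in hi)])
  obtain ⟨k, hk, hk'⟩ := D.exists_fix hg
  refine ⟨i, hi, k, hk, ?_⟩
  rw [← hrk, act_key] at hgk
  rcases eq_or_neg_of_key (v := w) (by omega)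
      (show sqNorm ((g • vecL (D.C.starts.getD i []) : ↥leechLattice) : GolayPt → ℤ) ≤ 64 by
        rw [sqNorm_smul]; omega) hgk.symm
    with e | e <;> rcases hk' (vecL (D.C.starts.getD i [])) with e' | e'
  · exact Or.inl (e'.trans e)
  · exact Or.inr (by rw [e', e])
  · exact Or.inr (e'.trans e)
  · exact Or.inl (by rw [e', e, neg_neg])

/-- the scalar products of a short vector are those of a representative up to sign -/
theorem MultiData.sig_mem {w : ↥leechLattice} (hw : sqNorm (w : GolayPt → ℤ) = 32) :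
    ∃ i, i < D.C.starts.length ∧ (sigV D.vs w = sigL D.V (D.C.starts.getD i []) ∨
      sigV D.vs w = (sigL D.V (D.C.starts.getD i [])).map fun z => -z) := by
  obtain ⟨i, hi, k, hk, h | h⟩ := D.exists_rep hw <;> refine ⟨i, hi, ?_⟩
  · left; rw [← h, sigV_fix hk, D.sigV_vecL (D.start_in hi)]
  · right
    rw [show w = -(k • vecL (D.C.starts.getD i [])) by rw [h, neg_neg], sigV_neg, sigV_fix hk,
      D.sigV_vecL (D.start_in hi)]

theorem negMap_negMap (c : List ℤ) : (c.map fun z => -z).map (fun z => -z) = c := by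
  induction c with
  | nil => rfl
  | cons a as ih => simp [ih]

theorem MultiData.set_orbit {c : List ℤ} {i0 : ℕ} (h : uniqSig D c i0 = true) :
    ∃ r : ↥leechLattice, (r = vecL (D.C.starts.getD i0 []) ∨ r = -vecL (D.C.starts.getD i0 [])) ∧
      r ∈ setV D.vs c ∧
      ∀ w ∈ setV D.vs c, ∃ k : ↥Co0, (∀ u ∈ D.vs, k • u = u) ∧ k • r = w := by
  simp only [uniqSig, Bool.and_eq_true, Bool.or_eq_true, decide_eq_true_eq, beq_iff_eq, bne_iff_ne,
    List.all_eq_true, List.mem_range] at h
  obtain ⟨⟨⟨⟨hi0, hsig⟩, hne⟩, huniq⟩, -⟩ := h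
  have hnorm : sqNorm (vecL (D.C.starts.getD i0 []) : GolayPt → ℤ) = 32 := by
    obtain ⟨w, hw, hwv, -⟩ := subOK_start D.valid hi0
    rw [coe_vecL (D.start_in hi0), ← hwv]; exact hw
  have key' : ∀ w ∈ setV D.vs c, ∃ k : ↥Co0, (∀ u ∈ D.vs, k • u = u) ∧
      (k • vecL (D.C.starts.getD i0 []) = w ∨ k • vecL (D.C.starts.getD i0 []) = -w) := by
    rintro w ⟨hw, hwc⟩
    obtain ⟨i, hi, k, hk, h⟩ := D.exists_rep hw
    have hi' : i = i0 := by
      by_contra hne'
      obtain ⟨h1, h2⟩ := (huniq i hi).resolve_left hne'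
      rcases h with e | e
      · exact h1 (by rw [← D.sigV_vecL (D.start_in hi), ← sigV_fix hk, e, hwc])
      · exact h2 (by rw [← D.sigV_vecL (D.start_in hi), ← sigV_fix hk, e, sigV_neg, hwc])
    subst hi'
    exact ⟨k, hk, h⟩
  rcases hsig with hs | hs
  · refine ⟨_, Or.inl rfl, ⟨hnorm, by rw [D.sigV_vecL (D.start_in hi0), hs]⟩, fun w hw => ?_⟩
    obtain ⟨k, hk, e | e⟩ := key' w hw
    · exact ⟨k, hk, e⟩
    · exfalso
      apply hne
      have := sigV_fix hk (vecL (D.C.starts.getD i0 []))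
      rw [e, sigV_neg, hw.2, D.sigV_vecL (D.start_in hi0), hs] at this
      exact this.symm
  · refine ⟨_, Or.inr rfl, ⟨by rw [AddSubgroup.coe_neg, sqNorm_neg, hnorm],
      by rw [sigV_neg, D.sigV_vecL (D.start_in hi0), hs, negMap_negMap]⟩, fun w hw => ?_⟩
    obtain ⟨k, hk, e | e⟩ := key' w hw
    · exfalso
      apply hne
      have := sigV_fix hk (vecL (D.C.starts.getD i0 []))
      rw [e, hw.2, D.sigV_vecL (D.start_in hi0), hs] at this
      exact this
    · exact ⟨k, hk, by rw [smul_neg', e, neg_neg]⟩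

theorem MultiData.ncard_setV {c : List ℤ} {i0 : ℕ} (h : uniqSig D c i0 = true) :
    (setV D.vs c).ncard = D.C.cnt (fun i => i == i0) := by
  obtain ⟨r, hr0, hr, horb⟩ := D.set_orbit h
  simp only [uniqSig, Bool.and_eq_true, Bool.or_eq_true, decide_eq_true_eq, beq_iff_eq, bne_iff_ne,
    List.all_eq_true, List.mem_range] at h
  obtain ⟨⟨⟨⟨hi0, hsig⟩, hne⟩, huniq⟩, hparts⟩ := h
  set Q : ℕ → Prop := fun k => ∃ w ∈ setV D.vs c, key (w : GolayPt → ℤ) = k with hQ
  rw [← ncard_invariant D.valid (fun i => i == i0) hparts Q ?_ ?_]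
  · refine Set.ncard_congr (fun w _ => key (w : GolayPt → ℤ)) ?_ ?_ ?_
    · intro w hw
      exact ⟨⟨key_lt _, typ_of_norm (t := 1) (by norm_num) hw.1⟩, w, hw, rfl⟩
    · rintro v w ⟨hv, hvc⟩ ⟨hw, hwc⟩ e
      rcases eq_or_neg_of_key (v := v) (w := w) (by omega) (by omega) e with e' | e'
      · exact e'.symm
      · exfalso
        apply hne
        rw [e', sigV_neg, hvc] at hwc
        exact hwc.symm
    · rintro k ⟨-, w, hw, hwk⟩
      exact ⟨w, hw, hwk⟩
  · have fwd : ∀ g, FixAll D.C.fix g → ∀ k, Q k → Q (act g k) := by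
      rintro g hg k ⟨w, ⟨hw, hwc⟩, rfl⟩
      obtain ⟨g', hg', hg''⟩ := D.exists_fix hg
      refine ⟨g' • w, ⟨(sqNorm_smul g' w).trans hw, by rw [sigV_fix hg', hwc]⟩, ?_⟩
      rw [act_key]
      rcases hg'' w with e | e <;> rw [e]
      rw [AddSubgroup.coe_neg, key_neg (g • w).2]
    intro g hg k hk
    refine ⟨fun hq => ?_, fwd g hg k⟩
    have := fwd g⁻¹ (hg.inv (subOK_fix D.valid)) _ hq
    rwa [act_inv_act g hk] at this
  · intro i hi
    obtain ⟨w, hw, hwv, hwk⟩ := subOK_start D.valid hi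
    obtain rfl : w = vecL (D.C.starts.getD i []) := Subtype.ext (by rw [hwv, coe_vecL (D.start_in hi)])
    rw [beq_iff_eq]
    constructor
    · rintro rfl
      refine ⟨r, hr, ?_⟩
      rw [← hwk]
      rcases hr0 with rfl | rfl
      · rfl
      · rw [AddSubgroup.coe_neg, key_neg (vecL _).2]
    · rintro ⟨v, ⟨hv, hvc⟩, hvk⟩
      by_contra hne'
      obtain ⟨h1, h2⟩ := (huniq i hi).resolve_left hne'
      rw [← D.sigV_vecL (D.start_in hi)] at h1 h2
      rcases eq_or_neg_of_key (v := v) (w := vecL (D.C.starts.getD i [])) (by omega) (by omega)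
          (hvk.trans hwk.symm) with e | e
      · exact h1 (by rw [e, hvc])
      · exact h2 (by rw [e, sigV_neg, hvc])

/-! ### Moving to other vectors -/

theorem setV_smul (h : ↥Co0) (us : List ↥leechLattice) (c : List ℤ) :
    setV (us.map fun u => h • u) c = (fun x => h • x) '' setV us c := by
  ext x
  constructor
  · rintro ⟨hx, hc⟩
    refine ⟨h⁻¹ • x, ⟨(sqNorm_smul _ x).trans hx, ?_⟩, smul_inv_smul h x⟩
    rw [← sigV_smul h, smul_inv_smul, hc]
  · rintro ⟨y, ⟨hy, hc⟩, rfl⟩
    exact ⟨(sqNorm_smul h y).trans hy, by rw [sigV_smul, hc]⟩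

theorem MultiData.ncard_of_smul {c : List ℤ} {i0 n : ℕ} (hu : uniqSig D c i0 = true)
    (hn : D.C.cnt (fun i => i == i0) = n) {h : ↥Co0} {us : List ↥leechLattice}
    (hus : D.vs.map (fun u => h • u) = us) : (setV us c).ncard = n := by
  rw [← hus, setV_smul, Set.ncard_image_of_injective _ (MulAction.injective h), D.ncard_setV hu, hn]

theorem MultiData.trans_of_smul {c : List ℤ} {i0 : ℕ} (hu : uniqSig D c i0 = true) {h : ↥Co0}
    {us : List ↥leechLattice} (hus : D.vs.map (fun u => h • u) = us) {x y : ↥leechLattice}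
    (hx : x ∈ setV us c) (hy : y ∈ setV us c) :
    ∃ g : ↥Co0, (∀ u ∈ us, g • u = u) ∧ g • x = y := by
  subst hus
  rw [setV_smul] at hx hy
  obtain ⟨x, hx, rfl⟩ := hx
  obtain ⟨y, hy, rfl⟩ := hy
  obtain ⟨r, -, -, horb⟩ := D.set_orbit hu
  obtain ⟨k, hk, hkx⟩ := horb x hx
  obtain ⟨k', hk', hky⟩ := horb y hy
  refine ⟨h * (k' * k⁻¹) * h⁻¹, fun u hu' => ?_, ?_⟩
  · obtain ⟨v, hv, rfl⟩ := List.mem_map.1 hu'
    simp only [mul_smul, inv_smul_smul]
    rw [show k⁻¹ • v = v from (eq_inv_smul_iff.2 (hk v hv)).symm, hk' v hv]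
  · simp only [mul_smul, inv_smul_smul]
    rw [← hkx, inv_smul_smul, hky]

/-- the stabilizer orbit of an element of a set is the whole set -/
theorem MultiData.orbit_of_smul {c : List ℤ} {i0 : ℕ} (hu : uniqSig D c i0 = true) {h : ↥Co0}
    {us : List ↥leechLattice} (hus : D.vs.map (fun u => h • u) = us) {K : Subgroup ↥Co0}
    (hK : ∀ g : ↥Co0, g ∈ K ↔ ∀ u ∈ us, g • u = u) {x : ↥leechLattice} (hx : x ∈ setV us c) :
    MulAction.orbit K x = setV us c := by
  ext y
  constructor
  · rintro ⟨⟨g, hg⟩, rfl⟩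
    exact ⟨(sqNorm_smul g x).trans hx.1, (sigV_fix ((hK g).1 hg) x).trans hx.2⟩
  · intro hy
    obtain ⟨g, hg, hgx⟩ := D.trans_of_smul hu hus hx hy
    exact ⟨⟨g, (hK g).2 hg⟩, hgx⟩

theorem MultiData.exists_of_smul {c : List ℤ} {i0 : ℕ} (hu : uniqSig D c i0 = true) {h : ↥Co0}
    {us : List ↥leechLattice} (hus : D.vs.map (fun u => h • u) = us) : ∃ x, x ∈ setV us c := by
  obtain ⟨r, -, hr, -⟩ := D.set_orbit hu
  exact ⟨h • r, by rw [← hus, setV_smul]; exact ⟨r, hr, rfl⟩⟩

theorem MultiData.sig_mem_of_smul {h : ↥Co0} {us : List ↥leechLattice}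
    (hus : D.vs.map (fun u => h • u) = us) {w : ↥leechLattice}
    (hw : sqNorm (w : GolayPt → ℤ) = 32) :
    sigV us w ∈ (D.C.starts.map fun r => sigL D.V r) ++
      D.C.starts.map fun r => (sigL D.V r).map fun z => -z := by
  subst hus
  have e : sigV (D.vs.map fun u => h • u) w = sigV D.vs (h⁻¹ • w) := by
    conv_lhs => rw [← smul_inv_smul h w, sigV_smul]
  obtain ⟨i, hi, h'⟩ := D.sig_mem (w := h⁻¹ • w) ((sqNorm_smul _ w).trans hw)
  have hm : D.C.starts.getD i [] ∈ D.C.starts := by
    rw [List.getD_eq_getElem _ _ hi]; exact List.getElem_mem hi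
  rw [e, List.mem_append]
  rcases h' with h' | h' <;> rw [h']
  · exact Or.inl (List.mem_map_of_mem hm)
  · exact Or.inr (List.mem_map.2 ⟨_, hm, rfl⟩)

end CfsgLib.Leech
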