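import Cfsg.Agent.Lib.Leech.StabSimple
import Cfsg.Agent.Lib.Leech.BitLin

/-!
Elements of the stabilizer of a lattice vector, given by their images of the basis and identified by
their action on the classes modulo two.
-/

set_option autoImplicit false
set_option maxRecDepth 10000

namespace CfsgLib.Leech

open Cfsg CfsgLib.Golay

attribute [local irreducible] dL bL key keyL coord packB linL bits

/-- coordinates of a coordinate list with respect to the basis -/
def coordL (l : List ℤ) : List ℤ := dL.map fun d => dotL l d / 8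

/-- one coordinate of a combination -/
def linAt : List ℤ → List (List ℤ) → ℕ → ℤ
  | z :: zs, w :: ws, i => z * w.getD i 0 + linAt zs ws i
  | _, _, _ => 0

/-- images of the basis defining an automorphism that fixes the given vector -/
def stabOK (V : List ℤ) (W : List (List ℤ)) : Bool :=
  autOK W && (List.range 24).all fun i => linAt (coordL V) W i == V.getD i 0

theorem linL_vec : ∀ (zs : List ℤ) (W : List (List ℤ)) (p : GolayPt),
    linL zs (W.map vec) p = linAt zs W (idx p)
  | [], W, p => by simp [linL, linAt]
  | z :: zs, [], p => by simp [linL, linAt]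
  | z :: zs, w :: ws, p => by
    rw [List.map_cons, linL, linAt, Pi.add_apply, Pi.smul_apply, linL_vec zs ws p, smul_eq_mul]
    rfl

theorem ofFn_coord_vec {l : List ℤ} (h : l.length = 24) : List.ofFn (coord (vec l)) = coordL l := by
  refine List.ext_getElem (by rw [List.length_ofFn, coordL, List.length_map, data_length.2]) fun i h1 h2 => ?_
  rw [List.length_ofFn] at h1
  have hd : i < dL.length := by rw [data_length.2]; exact h1
  have hdv : dV ⟨i, h1⟩ = vec dL[i] := by
    simp only [dV, List.getD_eq_getElem?_getD, List.getElem?_eq_getElem hd, Option.getD_some]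
  have hlen : (dL[i]).length = 24 := by
    have := List.all_eq_true.1 data_inL.2 _ (List.getElem_mem hd)
    simp only [inL, Bool.and_eq_true, beq_iff_eq] at this
    exact this.1.1.1
  simp only [coordL, List.getElem_ofFn, List.getElem_map, coord, hdv, dotInt_vec h hlen]

variable {V : List ℤ} (hV : inL V = true)

/-- the stabilizer of the vector with the given coordinates -/
noncomputable abbrev stabL : Subgroup ↥Co0 :=
  MulAction.stabilizer ↥Co0 (⟨vec V, vec_mem hV⟩ : ↥leechLattice)

theorem stabOK_mem {W : List (List ℤ)} (h : stabOK V W = true) :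
    ∃ g : ↥Co0, g ∈ stabL hV ∧ ∀ k < 2 ^ 24, act g k = comb (W.map keyL) k := by
  simp only [stabOK, Bool.and_eq_true, List.all_eq_true, List.mem_range, beq_iff_eq] at h
  refine ⟨(linIso h.1).aut, MulAction.mem_stabilizer_iff.2 (Subtype.ext ?_), fun k hk => act_lin h.1 hk⟩
  rw [Iso.aut_smul]
  show linF W (vec V) = vec V
  funext p
  rw [linF, linL_vec, ofFn_coord_vec (inL_length hV), h.2 _ (idx_lt p)]
  rfl

open Classical in
/-- the element with given images of the basis -/
noncomputable def stabElt (W : List (List ℤ)) : ↥(stabL hV) :=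
  if h : stabOK V W = true then ⟨(stabOK_mem hV h).choose, (stabOK_mem hV h).choose_spec.1⟩ else 1

/-- the action on classes is given by the table -/
def Rep (g : ↥(stabL hV)) (c : List ℕ) : Prop := ∀ k < 2 ^ 24, act (g : ↥Co0) k = comb c k

/-- composition of tables -/
def mulC (c d : List ℕ) : List ℕ := d.map (comb c)

theorem rep_stabElt {W : List (List ℤ)} (h : stabOK V W = true) :
    Rep hV (stabElt hV W) (W.map keyL) := by
  intro k hk
  rw [stabElt, dif_pos h]
  exact (stabOK_mem hV h).choose_spec.2 k hk

theorem rep_one : Rep hV 1 pow2L := fun k hk => by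
  rw [comb_pow2 hk]
  exact act_one hk

theorem Rep.mul {g h : ↥(stabL hV)} {c d : List ℕ} (hg : Rep hV g c) (hh : Rep hV h d) :
    Rep hV (g * h) (mulC c d) := fun k hk => by
  rw [Subgroup.coe_mul, act_mul, hg _ (act_lt _ _), hh k hk, mulC, comb_comb]

theorem Rep.prod {α : Type*} {g : α → ↥(stabL hV)} {c : α → List ℕ} : ∀ {w : List α},
    (∀ a ∈ w, Rep hV (g a) (c a)) → Rep hV (w.map g).prod ((w.map c).foldr mulC pow2L) := by
  intro w
  induction w with
  | nil => intro _; exact rep_one hV
  | cons a w ih =>
    intro h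
    simp only [List.mem_cons, forall_eq_or_imp] at h
    simp only [List.map_cons, List.prod_cons, List.foldr_cons]
    exact h.1.mul hV (ih h.2)

include hV in
theorem Rep.eq (hne : vec V ≠ 0) {g h : ↥(stabL hV)} {c : List ℕ} (hg : Rep hV g c)
    (hh : Rep hV h c) : g = h := by
  set x : ↥Co0 := (g : ↥Co0)⁻¹ * h with hx
  have hcen : x ∈ Subgroup.center ↥Co0 := trivial_mod_two fun v => by
    rw [isDbl_sub_iff, ← act_key, hx, act_mul, hh _ (key_lt _), ← hg _ (key_lt _),
      act_inv_act _ (key_lt _)]
  rw [← SetLike.mem_coe, center_eq] at hcen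
  rcases hcen with h1 | h1
  · exact Subtype.ext (inv_mul_eq_one.mp h1)
  · exfalso
    have hfix : x • (⟨vec V, vec_mem hV⟩ : ↥leechLattice) = ⟨vec V, vec_mem hV⟩ :=
      MulAction.mem_stabilizer_iff.1 (mul_mem (inv_mem g.2) h.2)
    rw [show x = negAut from h1, negAut_smul] at hfix
    refine hne (funext fun p => ?_)
    have := congrFun (congrArg Subtype.val hfix) p
    simp only [AddSubgroup.coe_neg, Pi.neg_apply] at this
    simp only [Pi.zero_apply]
    omega

theorem Rep.ne {g h : ↥(stabL hV)} {c d : List ℕ} (hg : Rep hV g c) (hh : Rep hV h d)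
    (hcd : ∃ j < 24, comb c (2 ^ j) ≠ comb d (2 ^ j)) : g ≠ h := by
  rintro rfl
  obtain ⟨j, hj, hne⟩ := hcd
  have hk : 2 ^ j < 2 ^ 24 := Nat.pow_lt_pow_right (by norm_num) hj
  exact hne ((hg _ hk).symm.trans (hh _ hk))

end CfsgLib.Leech
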